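import Mathlib
import Cfsg.Agent.Lib.ChevIso.Act
import Cfsg.Agent.Lib.Chevalley.Tbl.G2Cols

/-!
The Chevalley group of type `G₂` acting on the split octonions: integer tables. The Lie algebra is realised by
derivations of the algebra in `8 × 8` matrices, and root elements by polynomials of degree two in the parameter.
-/

set_option autoImplicit false
set_option linter.unusedSectionVars false
set_option linter.unusedSimpArgs false
set_option linter.unusedVariables false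

namespace Cfsg.Agent.Lib.G2Oct.LiftT

open Cfsg.Lie Matrix Cfsg.Agent.Lib.Chevalley.Reflect Cfsg.Agent.Lib.ChevIso.Act

/-- The encoding of the coordinates. -/
def E8 : Enc (Fin 8) where
  cd := Fin.val
  dc k := ⟨k % 8, Nat.mod_lt _ (by norm_num)⟩
  dc_cd := by
    intro i
    fin_cases i <;> rfl
  L := [0, 1, 2, 3, 4, 5, 6, 7]
  mem := by
    intro i
    fin_cases i <;> simp

/-- The root matrices. -/
def blB (r : ℕ) : SpM :=
  match r with
  | 0 => [(3, 2, 1), (5, 6, -1)]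
  | 1 => [(3, 1, -1), (4, 6, 1)]
  | 2 => [(0, 6, 1), (3, 0, -1), (3, 7, 1), (4, 2, 1), (5, 1, -1), (7, 6, -1)]
  | 3 => [(0, 2, -1), (1, 6, 1), (3, 4, -1), (5, 0, 1), (5, 7, -1), (7, 2, 1)]
  | 4 => [(0, 1, 1), (2, 6, 1), (3, 5, -1), (4, 0, -1), (4, 7, 1), (7, 1, -1)]
  | 5 => [(1, 2, -1), (5, 4, 1)]
  | 6 => [(2, 1, -1), (4, 5, 1)]
  | 7 => [(0, 4, -1), (1, 0, 1), (1, 7, -1), (5, 3, -1), (6, 2, 1), (7, 4, 1)]
  | 8 => [(0, 5, 1), (2, 0, -1), (2, 7, 1), (4, 3, -1), (6, 1, 1), (7, 5, -1)]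
  | 9 => [(0, 3, -1), (1, 5, -1), (2, 4, 1), (6, 0, 1), (6, 7, -1), (7, 3, 1)]
  | 10 => [(1, 3, -1), (6, 4, 1)]
  | 11 => [(2, 3, 1), (6, 5, -1)]
  | _ => []

/-- The quadratic parts of the root elements. -/
def blC (r : ℕ) : SpM :=
  match r with
  | 0 => []
  | 1 => []
  | 2 => [(3, 6, -1)]
  | 3 => [(5, 2, -1)]
  | 4 => [(4, 1, -1)]
  | 5 => []
  | 6 => []
  | 7 => [(1, 4, -1)]
  | 8 => [(2, 5, -1)]
  | 9 => [(6, 3, -1)]
  | 10 => []
  | 11 => []
  | _ => []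

/-- The matrices of the `h_{p_i}`. -/
def hlB (i : ℕ) : SpM :=
  match i with
  | 0 => [(1, 1, 2), (2, 2, -1), (3, 3, -1), (4, 4, -2), (5, 5, 1), (6, 6, 1)]
  | 1 => [(1, 1, -1), (2, 2, 1), (4, 4, 1), (5, 5, -1)]
  | _ => []

/-- The matrix of a basis vector. -/
def pl (k : ℕ) : SpM := if k < 2 then hlB k else blB (k - 2)

/-- The entries. -/
def Pz (k i j : ℕ) : ℤ := evZ (pl k) i j

/-- The checks for one column. -/
def chk (r k : ℕ) : Bool :=
  (xCol chevG2 r k).all (fun e => decide (e.deg = 1 ∨ e.deg = 2 ∨ e.deg = 3) && decide (e.row < 14)) &&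
  E8.L.all fun i => E8.L.all fun j =>
    decide (Lz (blB r) (Pz k) i j = Sz Pz 1 (xCol chevG2 r k) i j + Rz (blB r) (Pz k) i j) &&
    decide (Lz (blC r) (Pz k) i j = Sz Pz 2 (xCol chevG2 r k) i j + Rz (blB r) (Sz Pz 1 (xCol chevG2 r k)) i j +
      Rz (blC r) (Pz k) i j) &&
    decide (Sz Pz 3 (xCol chevG2 r k) i j + Rz (blB r) (Sz Pz 2 (xCol chevG2 r k)) i j +
      Rz (blC r) (Sz Pz 1 (xCol chevG2 r k)) i j = 0) &&
    decide (Rz (blB r) (Sz Pz 3 (xCol chevG2 r k)) i j + Rz (blC r) (Sz Pz 2 (xCol chevG2 r k)) i j = 0) &&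
    decide (Rz (blC r) (Sz Pz 3 (xCol chevG2 r k)) i j = 0)

theorem chk_all : (List.range 12).all (fun r => (List.range 14).all fun k => chk r k) = true := by
  decide +kernel

/-- The dual basis of the basis vectors. -/
def dual (k : ℕ) : SpM :=
  match k with
  | 0 => [(3, 3, -1)]
  | 1 => [(2, 2, 1), (3, 3, -1)]
  | 2 => [(3, 2, 1)]
  | 3 => [(3, 1, -1)]
  | 4 => [(0, 6, 1)]
  | 5 => [(0, 2, -1)]
  | 6 => [(0, 1, 1)]
  | 7 => [(1, 2, -1)]
  | 8 => [(2, 1, -1)]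
  | 9 => [(0, 4, -1)]
  | 10 => [(0, 5, 1)]
  | 11 => [(0, 3, -1)]
  | 12 => [(1, 3, -1)]
  | 13 => [(2, 3, 1)]
  | _ => []

theorem dual_all : (List.range 14).all (fun k => (List.range 14).all fun l =>
    decide (((dual k).map fun p => p.2.2 * Pz l p.1 p.2.1).sum = if l = k then 1 else 0) &&
    (dual k).all fun p => decide (p.1 < 8) && decide (p.2.1 < 8)) = true := by
  decide +kernel

theorem bl_lt : (List.range 12).all (fun r => (blB r).all (fun p => decide (p.1 < 8) && decide (p.2.1 < 8)) &&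
    (blC r).all (fun p => decide (p.1 < 8) && decide (p.2.1 < 8))) = true := by
  decide +kernel

end Cfsg.Agent.Lib.G2Oct.LiftT
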