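import Mathlib
import Cfsg.Prelude.Def_G2

/-!
The split octonions in coordinates: trace, norm, explicit automorphisms, and transitivity on idempotents and on
elements of square zero.
-/

set_option autoImplicit false
set_option linter.unusedSectionVars false
set_option linter.unusedSimpArgs false
set_option linter.unusedVariables false

namespace Cfsg.Agent.Lib.G2Oct.Zorn

open Cfsg.Lie Matrix

variable {F : Type*} [Field F]

/-- The algebra in coordinates. -/
abbrev O (F : Type*) : Type _ := Fin 8 → F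

theorem zm (x y : O F) : zornMul x y = ![x 0 * y 0 + (x 1 * y 4 + x 2 * y 5 + x 3 * y 6),
    x 0 * y 1 + y 7 * x 1 - (x 5 * y 6 - x 6 * y 5),
    x 0 * y 2 + y 7 * x 2 - (x 6 * y 4 - x 4 * y 6),
    x 0 * y 3 + y 7 * x 3 - (x 4 * y 5 - x 5 * y 4),
    y 0 * x 4 + x 7 * y 4 + (x 2 * y 3 - x 3 * y 2),
    y 0 * x 5 + x 7 * y 5 + (x 3 * y 1 - x 1 * y 3),
    y 0 * x 6 + x 7 * y 6 + (x 1 * y 2 - x 2 * y 1),
    (x 4 * y 1 + x 5 * y 2 + x 6 * y 3) + x 7 * y 7] := by
  funext i
  fin_cases i <;> simp [zornMul, dot3, cross3, zA, zB]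

/-- The unit. -/
def one8 : O F := ![1, 0, 0, 0, 0, 0, 0, 1]

/-- The trace. -/
def T8 (x : O F) : F := x 0 + x 7

/-- The norm. -/
def N8 (x : O F) : F := x 0 * x 7 - (x 1 * x 4 + x 2 * x 5 + x 3 * x 6)

/-- The polar form of the norm. -/
def B8 (x y : O F) : F := x 0 * y 7 + x 7 * y 0 - (x 1 * y 4 + x 4 * y 1 + x 2 * y 5 + x 5 * y 2 + x 3 * y 6 + x 6 * y 3)

theorem one_mul8 (x : O F) : zornMul one8 x = x := by
  funext i
  fin_cases i <;> simp [zm, one8]

theorem mul_one8 (x : O F) : zornMul x one8 = x := by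
  funext i
  fin_cases i <;> simp [zm, one8]

/-- The quadratic equation. -/
theorem sq_eq (x : O F) : zornMul x x = fun i => T8 x * x i - N8 x * one8 i := by
  funext i
  fin_cases i <;> simp [zm, one8, T8, N8] <;> ring

/-! ### Automorphisms -/

/-- A short root element, of the type adding to the first vector. -/
def psiF (w : Fin 3 → F) (x : O F) : O F :=
  ![x 0 - (x 4 * w 0 + x 5 * w 1 + x 6 * w 2),
    x 1 + (x 0 - x 7) * w 0 - (x 4 * w 0 + x 5 * w 1 + x 6 * w 2) * w 0,
    x 2 + (x 0 - x 7) * w 1 - (x 4 * w 0 + x 5 * w 1 + x 6 * w 2) * w 1,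
    x 3 + (x 0 - x 7) * w 2 - (x 4 * w 0 + x 5 * w 1 + x 6 * w 2) * w 2,
    x 4 - (x 2 * w 2 - x 3 * w 1),
    x 5 - (x 3 * w 0 - x 1 * w 2),
    x 6 - (x 1 * w 1 - x 2 * w 0),
    x 7 + (x 4 * w 0 + x 5 * w 1 + x 6 * w 2)]

/-- A short root element, of the type adding to the second vector. -/
def phiF (z : Fin 3 → F) (x : O F) : O F :=
  ![x 0 + (x 1 * z 0 + x 2 * z 1 + x 3 * z 2),
    x 1 + (x 5 * z 2 - x 6 * z 1),
    x 2 + (x 6 * z 0 - x 4 * z 2),
    x 3 + (x 4 * z 1 - x 5 * z 0),
    x 4 + (x 7 - x 0) * z 0 - (x 1 * z 0 + x 2 * z 1 + x 3 * z 2) * z 0,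
    x 5 + (x 7 - x 0) * z 1 - (x 1 * z 0 + x 2 * z 1 + x 3 * z 2) * z 1,
    x 6 + (x 7 - x 0) * z 2 - (x 1 * z 0 + x 2 * z 1 + x 3 * z 2) * z 2,
    x 7 - (x 1 * z 0 + x 2 * z 1 + x 3 * z 2)]

/-- The swap of the two idempotents. -/
def swF (x : O F) : O F := ![x 7, -x 4, -x 5, -x 6, -x 1, -x 2, -x 3, x 0]

/-- A long root element: the coordinate `i` of the first vector gets `t` times the coordinate `j`, the coordinate
`j` of the second vector gets `-t` times the coordinate `i`. -/
def trF (i j : Fin 3) (t : F) (x : O F) : O F :=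
  ![x 0,
    x 1 + (if i = 0 then t * zA F x j else 0), x 2 + (if i = 1 then t * zA F x j else 0),
    x 3 + (if i = 2 then t * zA F x j else 0),
    x 4 - (if j = 0 then t * zB F x i else 0), x 5 - (if j = 1 then t * zB F x i else 0),
    x 6 - (if j = 2 then t * zB F x i else 0), x 7]


theorem psi_hom (w : Fin 3 → F) (x y : O F) : psiF w (zornMul x y) = zornMul (psiF w x) (psiF w y) := by
  funext i
  fin_cases i <;> simp [zm, psiF] <;> ring

theorem phi_hom (w : Fin 3 → F) (x y : O F) : phiF w (zornMul x y) = zornMul (phiF w x) (phiF w y) := by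
  funext i
  fin_cases i <;> simp [zm, phiF] <;> ring

theorem sw_hom (x y : O F) : swF (zornMul x y) = zornMul (swF x) (swF y) := by
  funext i
  fin_cases i <;> simp [zm, swF] <;> ring

set_option maxHeartbeats 4000000 in
theorem tr_hom (i j : Fin 3) (hij : i ≠ j) (t : F) (x y : O F) :
    trF i j t (zornMul x y) = zornMul (trF i j t x) (trF i j t y) := by
  fin_cases i <;> fin_cases j <;> first | exact absurd rfl hij | (funext k; fin_cases k <;> simp [zm, trF] <;> ring)

/-- The linear map. -/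
def psiL (w : Fin 3 → F) : O F →ₗ[F] O F where
  toFun := psiF w
  map_add' x y := by
    funext i
    fin_cases i <;> simp [psiF] <;> ring
  map_smul' c x := by
    funext i
    fin_cases i <;> simp [psiF] <;> ring

/-- The linear map. -/
def phiL (w : Fin 3 → F) : O F →ₗ[F] O F where
  toFun := phiF w
  map_add' x y := by
    funext i
    fin_cases i <;> simp [phiF] <;> ring
  map_smul' c x := by
    funext i
    fin_cases i <;> simp [phiF] <;> ring

/-- The linear map. -/
def swL : O F →ₗ[F] O F where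
  toFun := swF
  map_add' x y := by
    funext i
    fin_cases i <;> simp [swF] <;> ring
  map_smul' c x := by
    funext i
    fin_cases i <;> simp [swF]

/-- The linear map. -/
def trL (i j : Fin 3) (t : F) : O F →ₗ[F] O F where
  toFun := trF i j t
  map_add' x y := by
    fin_cases i <;> fin_cases j <;> (funext k; fin_cases k <;> simp [trF] <;> (try ring))
  map_smul' c x := by
    fin_cases i <;> fin_cases j <;> (funext k; fin_cases k <;> simp [trF] <;> (try ring))

theorem psi_psi (w : Fin 3 → F) (s s' : F) (x : O F) : psiF (s • w) (psiF (s' • w) x) = psiF ((s + s') • w) x := by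
  funext i
  fin_cases i <;> simp [psiF] <;> ring

theorem phi_phi (w : Fin 3 → F) (s s' : F) (x : O F) : phiF (s • w) (phiF (s' • w) x) = phiF ((s + s') • w) x := by
  funext i
  fin_cases i <;> simp [phiF] <;> ring

theorem psi_neg (w : Fin 3 → F) (x : O F) : psiF w (psiF (-w) x) = x := by
  funext i
  fin_cases i <;> simp [psiF] <;> ring

theorem phi_neg (w : Fin 3 → F) (x : O F) : phiF w (phiF (-w) x) = x := by
  funext i
  fin_cases i <;> simp [phiF] <;> ring

theorem psi_zero (x : O F) : psiF 0 x = x := by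
  funext i
  fin_cases i <;> simp [psiF]

theorem phi_zero (x : O F) : phiF 0 x = x := by
  funext i
  fin_cases i <;> simp [phiF]

theorem sw_sw (x : O F) : swF (swF x) = x := by
  funext i
  fin_cases i <;> simp [swF]

theorem tr_tr (i j : Fin 3) (hij : i ≠ j) (t t' : F) (x : O F) : trF i j t (trF i j t' x) = trF i j (t + t') x := by
  fin_cases i <;> fin_cases j <;> first | exact absurd rfl hij | (funext k; fin_cases k <;> simp [trF] <;> (try ring))

theorem tr_zero (i j : Fin 3) (x : O F) : trF i j 0 x = x := by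
  funext k
  fin_cases k <;> simp [trF]

/-- A unit from a pair of inverse linear maps. -/
noncomputable def mkG (f f' : O F →ₗ[F] O F) (h1 : ∀ x, f (f' x) = x) (h2 : ∀ x, f' (f x) = x) : GL (Fin 8) F where
  val := LinearMap.toMatrix' f
  inv := LinearMap.toMatrix' f'
  val_inv := by
    rw [← LinearMap.toMatrix'_comp]
    have : f ∘ₗ f' = LinearMap.id := LinearMap.ext h1
    rw [this, LinearMap.toMatrix'_id]
  inv_val := by
    rw [← LinearMap.toMatrix'_comp]
    have : f' ∘ₗ f = LinearMap.id := LinearMap.ext h2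
    rw [this, LinearMap.toMatrix'_id]

theorem mkG_mulVec (f f' : O F →ₗ[F] O F) (h1 : ∀ x, f (f' x) = x) (h2 : ∀ x, f' (f x) = x) (x : O F) :
    ((mkG f f' h1 h2 : GL (Fin 8) F) : Matrix (Fin 8) (Fin 8) F) *ᵥ x = f x :=
  LinearMap.toMatrix'_mulVec f x

theorem mkG_mem (f f' : O F →ₗ[F] O F) (h1 : ∀ x, f (f' x) = x) (h2 : ∀ x, f' (f x) = x)
    (hm : ∀ x y, f (zornMul x y) = zornMul (f x) (f y)) : mkG f f' h1 h2 ∈ G2 F := by
  intro x y
  have e : ∀ z, (Units.coeHom (Matrix (Fin 8) (Fin 8) F) (mkG f f' h1 h2)) *ᵥ z = f z :=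
    fun z => mkG_mulVec f f' h1 h2 z
  rw [e, e, e]
  exact hm x y

/-- The automorphism. -/
noncomputable def psiG (w : Fin 3 → F) : GL (Fin 8) F :=
  mkG (psiL w) (psiL (-w)) (fun x => psi_neg w x) (fun x => by
    change psiF (-w) (psiF w x) = x
    have := psi_neg (-w) x
    rwa [neg_neg] at this)

/-- The automorphism. -/
noncomputable def phiG (w : Fin 3 → F) : GL (Fin 8) F :=
  mkG (phiL w) (phiL (-w)) (fun x => phi_neg w x) (fun x => by
    change phiF (-w) (phiF w x) = x
    have := phi_neg (-w) x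
    rwa [neg_neg] at this)

/-- The automorphism. -/
noncomputable def swG : GL (Fin 8) F :=
  mkG swL swL sw_sw sw_sw

/-- The automorphism. -/
noncomputable def trG (i j : Fin 3) (hij : i ≠ j) (t : F) : GL (Fin 8) F :=
  mkG (trL i j t) (trL i j (-t)) (fun x => by
    change trF i j t (trF i j (-t) x) = x
    rw [tr_tr i j hij, add_neg_cancel, tr_zero]) (fun x => by
    change trF i j (-t) (trF i j t x) = x
    rw [tr_tr i j hij, neg_add_cancel, tr_zero])

theorem psiG_mem (w : Fin 3 → F) : psiG w ∈ G2 F := mkG_mem _ _ _ _ (psi_hom w)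
theorem phiG_mem (w : Fin 3 → F) : phiG w ∈ G2 F := mkG_mem _ _ _ _ (phi_hom w)
theorem swG_mem : (swG : GL (Fin 8) F) ∈ G2 F := mkG_mem _ _ _ _ sw_hom
theorem trG_mem (i j : Fin 3) (hij : i ≠ j) (t : F) : trG i j hij t ∈ G2 F :=
  mkG_mem _ _ _ _ (tr_hom i j hij t)

/-- The action on vectors. -/
def act (g : GL (Fin 8) F) (x : O F) : O F := (g : Matrix (Fin 8) (Fin 8) F) *ᵥ x

theorem psiG_act (w : Fin 3 → F) (x : O F) : act (psiG w) x = psiF w x := mkG_mulVec _ _ _ _ x
theorem phiG_act (w : Fin 3 → F) (x : O F) : act (phiG w) x = phiF w x := mkG_mulVec _ _ _ _ x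
theorem swG_act (x : O F) : act swG x = swF x := mkG_mulVec _ _ _ _ x
theorem trG_act (i j : Fin 3) (hij : i ≠ j) (t : F) (x : O F) : act (trG i j hij t) x = trF i j t x :=
  mkG_mulVec _ _ _ _ x

theorem act_mul (g h : GL (Fin 8) F) (x : O F) : act (g * h) x = act g (act h x) := by
  simp [act, Matrix.mulVec_mulVec]

theorem act_one (x : O F) : act (1 : GL (Fin 8) F) x = x := by
  simp [act]

theorem act_inv_act (g : GL (Fin 8) F) (x : O F) : act g⁻¹ (act g x) = x := by
  rw [← act_mul, inv_mul_cancel, act_one]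

theorem act_act_inv (g : GL (Fin 8) F) (x : O F) : act g (act g⁻¹ x) = x := by
  rw [← act_mul, mul_inv_cancel, act_one]

theorem act_add (g : GL (Fin 8) F) (x y : O F) : act g (x + y) = act g x + act g y := by
  simp [act, Matrix.mulVec_add]

theorem act_sub (g : GL (Fin 8) F) (x y : O F) : act g (x - y) = act g x - act g y := by
  simp [act, Matrix.mulVec_sub]

theorem act_smul (g : GL (Fin 8) F) (c : F) (x : O F) : act g (c • x) = c • act g x := by
  simp [act, Matrix.mulVec_smul]

theorem act_zero (g : GL (Fin 8) F) : act g (0 : O F) = 0 := by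
  simp [act]

theorem act_inj (g : GL (Fin 8) F) {x y : O F} (h : act g x = act g y) : x = y := by
  rw [← act_inv_act g x, h, act_inv_act]

section Mem

variable {g : GL (Fin 8) F} (hg : g ∈ G2 F)
include hg

theorem act_hom (x y : O F) : act g (zornMul x y) = zornMul (act g x) (act g y) := hg x y

theorem act_one8 : act g (one8 : O F) = one8 := by
  have h := act_hom hg (one8 : O F) (act g⁻¹ one8)
  rw [one_mul8, act_act_inv, mul_one8] at h
  exact h.symm

theorem T8_N8_act (x : O F) : T8 (act g x) = T8 x ∧ N8 (act g x) = N8 x := by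
  have h := act_hom hg x x
  rw [sq_eq, sq_eq] at h
  have e : (fun i => T8 x * x i - N8 x * one8 i) = T8 x • x - N8 x • (one8 : O F) := by
    funext i
    simp
  rw [e, act_sub, act_smul, act_smul, act_one8 hg] at h
  have key : ∀ i, (T8 x - T8 (act g x)) * act g x i = (N8 x - N8 (act g x)) * one8 i := by
    intro i
    have := congrFun h i
    simp only [Pi.sub_apply, Pi.smul_apply, smul_eq_mul] at this
    linear_combination this
  have hT : T8 (act g x) = T8 x := by
    by_contra hne
    have hne' : T8 x - T8 (act g x) ≠ 0 := sub_ne_zero.mpr (Ne.symm hne)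
    set c := (N8 x - N8 (act g x)) / (T8 x - T8 (act g x)) with hc
    have h1 : act g x = c • (one8 : O F) := by
      funext i
      have := key i
      simp only [Pi.smul_apply, smul_eq_mul, hc]
      field_simp
      linear_combination this
    have h2 : x = c • (one8 : O F) := by
      apply act_inj g
      rw [h1, act_smul, act_one8 hg]
    apply hne
    rw [h1, h2]
  refine ⟨hT, ?_⟩
  have := key 0
  rw [hT, sub_self, zero_mul] at this
  simp only [one8, Matrix.cons_val_zero, mul_one] at this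
  linear_combination this

theorem T8_act (x : O F) : T8 (act g x) = T8 x := (T8_N8_act hg x).1
theorem N8_act (x : O F) : N8 (act g x) = N8 x := (T8_N8_act hg x).2

omit hg in
theorem B8_eq (x y : O F) : B8 x y = N8 (x + y) - N8 x - N8 y := by
  simp only [B8, N8, Pi.add_apply]
  ring

theorem B8_act (x y : O F) : B8 (act g x) (act g y) = B8 x y := by
  rw [B8_eq, B8_eq, ← act_add, N8_act hg, N8_act hg, N8_act hg]

end Mem

/-! ### Transitivity -/

/-- The first idempotent. -/
def e0 : O F := ![1, 0, 0, 0, 0, 0, 0, 0]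

/-- The element of square zero. -/
def x0 : O F := ![0, 1, 0, 0, 0, 0, 0, 0]

theorem T8_psi (w : Fin 3 → F) (x : O F) : T8 (psiF w x) = T8 x := by
  simp [T8, psiF]

theorem N8_psi (w : Fin 3 → F) (x : O F) : N8 (psiF w x) = N8 x := by
  simp only [N8, psiF]
  simp
  ring

theorem T8_phi (w : Fin 3 → F) (x : O F) : T8 (phiF w x) = T8 x := by
  simp [T8, phiF]

theorem N8_phi (w : Fin 3 → F) (x : O F) : N8 (phiF w x) = N8 x := by
  simp only [N8, phiF]
  simp
  ring

/-- All idempotents are conjugate. -/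
theorem exists_move_idem {e : O F} (hT : T8 e = 1) (hN : N8 e = 0) : ∃ h ∈ G2 F, act h e = e0 := by
  classical
  -- first kill the first vector
  have hT' : e 7 = 1 - e 0 := by
    simp only [T8] at hT
    linear_combination hT
  have hN' : e 0 * e 7 = e 1 * e 4 + e 2 * e 5 + e 3 * e 6 := by
    simp only [N8] at hN
    linear_combination hN
  obtain ⟨κ, hκ⟩ : ∃ κ : F, (1 + e 0 * κ) * (1 - e 7 * κ) = 0 := by
    by_cases h0 : e 0 = 0
    · refine ⟨1, ?_⟩
      rw [hT', h0]
      ring
    · refine ⟨-(e 0)⁻¹, ?_⟩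
      field_simp
      ring
  let w : Fin 3 → F := ![κ * e 1, κ * e 2, κ * e 3]
  set e' : O F := psiF w e with he'
  have h1 : e' 1 = 0 ∧ e' 2 = 0 ∧ e' 3 = 0 := by
    have key : ∀ a : F, a + (e 0 - e 7) * (κ * a) - (e 4 * (κ * e 1) + e 5 * (κ * e 2) + e 6 * (κ * e 3)) * (κ * a) = 0 := by
      intro a
      linear_combination a * hκ + κ ^ 2 * a * (hN')
    refine ⟨?_, ?_, ?_⟩
    · simp only [he', psiF, w]
      simpa using key (e 1)
    · simp only [he', psiF, w]
      simpa using key (e 2)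
    · simp only [he', psiF, w]
      simpa using key (e 3)
  have hT1 : T8 e' = 1 := by rw [he', T8_psi, hT]
  have hN1 : N8 e' = 0 := by rw [he', N8_psi, hN]
  have h2 : e' 0 * e' 7 = 0 := by
    simp only [N8, h1.1, h1.2.1, h1.2.2, zero_mul, add_zero, sub_zero] at hN1
    exact hN1
  have hT2 : e' 0 + e' 7 = 1 := hT1
  let z : Fin 3 → F := ![e' 4, e' 5, e' 6]
  rcases mul_eq_zero.mp h2 with h3 | h3
  · -- the other idempotent
    have h7 : e' 7 = 1 := by rw [h3, zero_add] at hT2; exact hT2
    refine ⟨swG * phiG (-z) * psiG w, ?_, ?_⟩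
    · exact Subgroup.mul_mem _ (Subgroup.mul_mem _ swG_mem (phiG_mem _)) (psiG_mem _)
    · rw [act_mul, act_mul, psiG_act, phiG_act, swG_act, ← he']
      funext i
      fin_cases i <;> simp [swF, phiF, e0, h1.1, h1.2.1, h1.2.2, h3, h7, z] <;> ring
  · have h7 : e' 0 = 1 := by rw [h3, add_zero] at hT2; exact hT2
    refine ⟨phiG z * psiG w, ?_, ?_⟩
    · exact Subgroup.mul_mem _ (phiG_mem _) (psiG_mem _)
    · rw [act_mul, psiG_act, phiG_act, ← he']
      funext i
      fin_cases i <;> simp [phiF, e0, h1.1, h1.2.1, h1.2.2, h3, h7, z] <;> ring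

/-- Moving a vector of the form `(0, a, 0, 0)`. -/
theorem exists_move_vec {x : O F} (h0 : x 0 = 0) (h4 : x 4 = 0) (h5 : x 5 = 0) (h6 : x 6 = 0) (h7 : x 7 = 0)
    (hne : x ≠ 0) : ∃ h ∈ G2 F, act h x = x0 := by
  classical
  -- make the first coordinate nonzero
  obtain ⟨h₁, hh₁, hx₁⟩ : ∃ h₁ ∈ G2 F, (act h₁ x) 1 ≠ 0 ∧ (act h₁ x) 0 = 0 ∧ (act h₁ x) 4 = 0 ∧
      (act h₁ x) 5 = 0 ∧ (act h₁ x) 6 = 0 ∧ (act h₁ x) 7 = 0 := by
    by_cases c1 : x 1 = 0
    · by_cases c2 : x 2 = 0
      · have c3 : x 3 ≠ 0 := by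
          intro c3
          apply hne
          funext i
          fin_cases i <;> simp [h0, h4, h5, h6, h7, c1, c2, c3]
        refine ⟨trG 0 2 (by decide) 1, trG_mem _ _ _ _, ?_⟩
        rw [trG_act]
        simp [trF, h0, h4, h5, h6, h7, c1, c2, c3]
      · refine ⟨trG 0 1 (by decide) 1, trG_mem _ _ _ _, ?_⟩
        rw [trG_act]
        simp [trF, h0, h4, h5, h6, h7, c1, c2]
    · refine ⟨1, Subgroup.one_mem _, ?_⟩
      rw [act_one]
      exact ⟨c1, h0, h4, h5, h6, h7⟩
  obtain ⟨c1, h0', h4', h5', h6', h7'⟩ := hx₁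
  set y := act h₁ x with hy
  -- kill the other coordinates
  let h₂ := trG 1 0 (by decide) (-(y 2) / y 1) * trG 2 0 (by decide) (-(y 3) / y 1)
  have hh₂ : h₂ ∈ G2 F := Subgroup.mul_mem _ (trG_mem _ _ _ _) (trG_mem _ _ _ _)
  set y' := act h₂ y with hy'
  have e1 : y' = ![0, y 1, 0, 0, 0, 0, 0, 0] := by
    rw [hy', act_mul, trG_act, trG_act]
    funext i
    fin_cases i <;> simp [trF, h0', h4', h5', h6', h7']
    · field_simp
      ring
    · field_simp
      ring
  -- normalize
  let h₃ := trG 1 0 (by decide) (-1) * trG 0 1 (by decide) (1 - y 1) * trG 1 0 (by decide) ((y 1)⁻¹)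
  have hh₃ : h₃ ∈ G2 F := Subgroup.mul_mem _ (Subgroup.mul_mem _ (trG_mem _ _ _ _) (trG_mem _ _ _ _)) (trG_mem _ _ _ _)
  refine ⟨h₃ * h₂ * h₁, Subgroup.mul_mem _ (Subgroup.mul_mem _ hh₃ hh₂) hh₁, ?_⟩
  rw [act_mul, act_mul, ← hy, ← hy', e1]
  simp only [h₃, act_mul, trG_act]
  funext i
  fin_cases i <;> simp [trF, x0]
  · field_simp
    ring
  · field_simp
    ring

/-- All nonzero elements of trace and norm zero are conjugate. -/
theorem exists_move_sing {x : O F} (hT : T8 x = 0) (hN : N8 x = 0) (hne : x ≠ 0) : ∃ h ∈ G2 F, act h x = x0 := by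
  classical
  -- Step (a): nonzero first coordinate
  have stepA : ∀ y : O F, T8 y = 0 → N8 y = 0 → y 0 ≠ 0 → ∃ h ∈ G2 F, act h y = x0 := by
    intro y hTy hNy hy0
    have h7 : y 7 = - y 0 := by
      simp only [T8] at hTy
      linear_combination hTy
    have hab : y 1 * y 4 + y 2 * y 5 + y 3 * y 6 = - y 0 ^ 2 := by
      simp only [N8, h7] at hNy
      linear_combination -hNy
    let κ := (y 0)⁻¹
    have hκ : κ * y 0 = 1 := inv_mul_cancel₀ hy0
    let z : Fin 3 → F := ![κ * y 4, κ * y 5, κ * y 6]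
    set y' := phiF z y with hy'
    have key : ∀ b : F, b + (y 7 - y 0) * (κ * b) - (y 1 * (κ * y 4) + y 2 * (κ * y 5) + y 3 * (κ * y 6)) * (κ * b) = 0 := by
      intro b
      rw [h7]
      have : (y 1 * (κ * y 4) + y 2 * (κ * y 5) + y 3 * (κ * y 6)) = κ * (- y 0 ^ 2) := by
        rw [← hab]; ring
      rw [this]
      linear_combination b * (κ * y 0 - 1) * hκ
    have h4 : y' 4 = 0 := by
      simp only [hy', phiF, z]
      simpa using key (y 4)
    have h5 : y' 5 = 0 := by
      simp only [hy', phiF, z]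
      simpa using key (y 5)
    have h6 : y' 6 = 0 := by
      simp only [hy', phiF, z]
      simpa using key (y 6)
    have hT' : T8 y' = 0 := by rw [hy', T8_phi, hTy]
    have hN' : N8 y' = 0 := by rw [hy', N8_phi, hNy]
    have h7' : y' 7 = - y' 0 := by
      simp only [T8] at hT'
      linear_combination hT'
    have h0' : y' 0 = 0 := by
      simp only [N8, h4, h5, h6, h7', mul_zero, add_zero, sub_zero] at hN'
      have : y' 0 ^ 2 = 0 := by linear_combination -hN'
      exact pow_eq_zero_iff (by norm_num) |>.mp this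
    have h7'' : y' 7 = 0 := by rw [h7', h0', neg_zero]
    have hne' : y' ≠ 0 := by
      intro h
      apply hy0
      have : y = 0 := by
        apply act_inj (phiG z)
        rw [phiG_act, act_zero, ← hy', h]
      rw [this]
      rfl
    obtain ⟨h, hh, he⟩ := exists_move_vec h0' h4 h5 h6 h7'' hne'
    refine ⟨h * phiG z, Subgroup.mul_mem _ hh (phiG_mem _), ?_⟩
    rw [act_mul, phiG_act, ← hy', he]
  by_cases h0 : x 0 = 0
  · by_cases ha : x 1 = 0 ∧ x 2 = 0 ∧ x 3 = 0
    · -- the swap
      obtain ⟨h1, h2, h3⟩ := ha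
      have h7 : x 7 = 0 := by
        simp only [T8, h0, zero_add] at hT
        exact hT
      have hne' : swF x ≠ 0 := by
        intro h
        apply hne
        apply act_inj (swG : GL (Fin 8) F)
        rw [swG_act, h, act_zero]
      obtain ⟨h, hh, he⟩ := exists_move_vec (x := swF x) (by simp [swF, h7]) (by simp [swF, h1]) (by simp [swF, h2])
        (by simp [swF, h3]) (by simp [swF, h0]) hne'
      refine ⟨h * swG, Subgroup.mul_mem _ hh swG_mem, ?_⟩
      rw [act_mul, swG_act, he]
    · -- make the first coordinate nonzero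
      obtain ⟨z, hz⟩ : ∃ z : Fin 3 → F, x 1 * z 0 + x 2 * z 1 + x 3 * z 2 ≠ 0 := by
        by_contra hcon
        push Not at hcon
        apply ha
        refine ⟨?_, ?_, ?_⟩
        · simpa using hcon ![1, 0, 0]
        · simpa using hcon ![0, 1, 0]
        · simpa using hcon ![0, 0, 1]
      have h1 : phiF z x 0 ≠ 0 := by
        simp only [phiF, h0, zero_add]
        simpa using hz
      obtain ⟨h, hh, he⟩ := stepA (phiF z x) (by rw [T8_phi, hT]) (by rw [N8_phi, hN]) h1
      refine ⟨h * phiG z, Subgroup.mul_mem _ hh (phiG_mem _), ?_⟩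
      rw [act_mul, phiG_act, he]
  · exact stepA x hT hN h0

end Cfsg.Agent.Lib.G2Oct.Zorn
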