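import Mathlib
import Cfsg.Agent.Lib.G2Oct.LiftT
import Cfsg.Agent.Lib.G2Oct.Zorn

/-!
The Chevalley group of type `G₂` lifts to automorphisms of the split octonions of determinant one.
-/

set_option autoImplicit false
set_option linter.unusedSectionVars false
set_option linter.unusedSimpArgs false
set_option linter.unusedVariables false

namespace Cfsg.Agent.Lib.G2Oct.Lift

open Cfsg.Lie Matrix Cfsg.Agent.Lib.Chevalley.Reflect Cfsg.Agent.Lib.ChevIso.Act Cfsg.Agent.Lib.G2Oct.LiftT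
open Cfsg.Agent.Lib.G2Oct.Zorn (O psiF phiF trF psiG phiG trG psiG_mem phiG_mem trG_mem psiG_act phiG_act trG_act)

section Gen

variable {ι : Type} [Fintype ι] [DecidableEq ι] {F : Type*} [Field F]

lemma sum_col3 (E : Enc ι) (Pz : ℕ → ℕ → ℕ → ℤ) (t : F) (col : Cl) (hdeg : ∀ e ∈ col, e.deg = 1 ∨ e.deg = 2 ∨ e.deg = 3) :
    (col.map fun e => ((e.m : F) * t ^ e.deg) • matF E F (Pz e.row)).sum =
      t • matF E F (Sz Pz 1 col) + t ^ 2 • matF E F (Sz Pz 2 col) + t ^ 3 • matF E F (Sz Pz 3 col) := by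
  induction col with
  | nil =>
    ext a b
    simp [matF_apply, Sz]
  | cons e col ih =>
    have ih' := ih (fun x hx => hdeg x (List.mem_cons_of_mem _ hx))
    simp only [List.map_cons, List.sum_cons]
    rw [ih']
    ext a b
    simp only [Matrix.add_apply, Matrix.smul_apply, matF_apply, smul_eq_mul]
    have e1 : ∀ d i j, Sz Pz d (e :: col) i j = (if e.deg = d then e.m * Pz e.row i j else 0) + Sz Pz d col i j := by
      intro d i j
      simp [Sz]
    rw [e1, e1, e1]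
    rcases hdeg e List.mem_cons_self with h | h | h
    · simp [h]
      ring
    · simp [h]
      ring
    · simp [h]
      ring

/-- The identity for one column of one root element, from integer checks. -/
theorem rel_col3 (E : Enc ι) (Pz : ℕ → ℕ → ℕ → ℤ) (bl cl : SpM) (k : ℕ) (col : Cl) (t : F)
    (hbl1 : ∀ p ∈ bl, E.cd (E.dc p.1) = p.1) (hbl2 : ∀ p ∈ bl, E.cd (E.dc p.2.1) = p.2.1)
    (hcl1 : ∀ p ∈ cl, E.cd (E.dc p.1) = p.1) (hcl2 : ∀ p ∈ cl, E.cd (E.dc p.2.1) = p.2.1)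
    (hdeg : ∀ e ∈ col, e.deg = 1 ∨ e.deg = 2 ∨ e.deg = 3)
    (c1 : ∀ i ∈ E.L, ∀ j ∈ E.L, Lz bl (Pz k) i j = Sz Pz 1 col i j + Rz bl (Pz k) i j)
    (c2 : ∀ i ∈ E.L, ∀ j ∈ E.L, Lz cl (Pz k) i j = Sz Pz 2 col i j + Rz bl (Sz Pz 1 col) i j + Rz cl (Pz k) i j)
    (c3 : ∀ i ∈ E.L, ∀ j ∈ E.L, Sz Pz 3 col i j + Rz bl (Sz Pz 2 col) i j + Rz cl (Sz Pz 1 col) i j = 0)
    (c4 : ∀ i ∈ E.L, ∀ j ∈ E.L, Rz bl (Sz Pz 3 col) i j + Rz cl (Sz Pz 2 col) i j = 0)
    (c5 : ∀ i ∈ E.L, ∀ j ∈ E.L, Rz cl (Sz Pz 3 col) i j = 0) :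
    (matF E F (Pz k) + (col.map fun e => ((e.m : F) * t ^ e.deg) • matF E F (Pz e.row)).sum) *
        (1 + t • matF E F (evZ bl) + t ^ 2 • matF E F (evZ cl)) =
      (1 + t • matF E F (evZ bl) + t ^ 2 • matF E F (evZ cl)) * matF E F (Pz k) := by
  rw [sum_col3 E Pz t col hdeg]
  obtain ⟨B, hB⟩ : ∃ B, B = matF E F (evZ bl) := ⟨_, rfl⟩
  obtain ⟨C, hC⟩ : ∃ C, C = matF E F (evZ cl) := ⟨_, rfl⟩
  obtain ⟨P, hP⟩ : ∃ P, P = matF E F (Pz k) := ⟨_, rfl⟩
  obtain ⟨S1, hS1⟩ : ∃ S1, S1 = matF E F (Sz Pz 1 col) := ⟨_, rfl⟩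
  obtain ⟨S2, hS2⟩ : ∃ S2, S2 = matF E F (Sz Pz 2 col) := ⟨_, rfl⟩
  obtain ⟨S3, hS3⟩ : ∃ S3, S3 = matF E F (Sz Pz 3 col) := ⟨_, rfl⟩
  rw [← hB, ← hC, ← hP, ← hS1, ← hS2, ← hS3]
  have h1 : B * P = S1 + P * B := by
    have e : matF E F (Lz bl (Pz k)) = matF E F (fun i j => Sz Pz 1 col i j + Rz bl (Pz k) i j) := matF_congr E c1
    rw [hB, hP, mul_left E bl hbl2, mul_right E bl hbl1, e, hS1]
    ext a b
    simp [matF_apply]
  have h2 : C * P = S2 + S1 * B + P * C := by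
    have e : matF E F (Lz cl (Pz k)) = matF E F (fun i j => Sz Pz 2 col i j + Rz bl (Sz Pz 1 col) i j + Rz cl (Pz k) i j) :=
      matF_congr E c2
    rw [hC, hP, mul_left E cl hcl2, e, hS1, hB, mul_right E bl hbl1, mul_right E cl hcl1, hS2]
    ext a b
    simp [matF_apply]
  have h3 : S3 + S2 * B + S1 * C = 0 := by
    rw [hS1, hS2, hS3, hB, hC, mul_right E bl hbl1, mul_right E cl hcl1]
    ext a b
    have := c3 _ (E.mem a) _ (E.mem b)
    simp only [Matrix.add_apply, matF_apply, Matrix.zero_apply]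
    rw [← Int.cast_add, ← Int.cast_add, this, Int.cast_zero]
  have h4 : S3 * B + S2 * C = 0 := by
    rw [hS2, hS3, hB, hC, mul_right E bl hbl1, mul_right E cl hcl1]
    ext a b
    have := c4 _ (E.mem a) _ (E.mem b)
    simp only [Matrix.add_apply, matF_apply, Matrix.zero_apply]
    rw [← Int.cast_add, this, Int.cast_zero]
  have h5 : S3 * C = 0 := by
    rw [hS3, hC, mul_right E cl hcl1]
    ext a b
    have := c5 _ (E.mem a) _ (E.mem b)
    simp only [matF_apply, Matrix.zero_apply]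
    rw [this, Int.cast_zero]
  have e1 : (P + (t • S1 + t ^ 2 • S2 + t ^ 3 • S3)) * (1 + t • B + t ^ 2 • C) =
      P + t • (S1 + P * B) + t ^ 2 • (S2 + S1 * B + P * C) + t ^ 3 • (S3 + S2 * B + S1 * C) +
        t ^ 4 • (S3 * B + S2 * C) + t ^ 5 • (S3 * C) := by
    simp only [add_mul, mul_add, mul_one, Matrix.smul_mul, Matrix.mul_smul, smul_smul, smul_add]
    module
  rw [e1, h3, h4, h5, ← h2, ← h1]
  simp only [smul_zero, add_zero, add_mul, one_mul, Matrix.smul_mul]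

end Gen

section Main

variable {F : Type*} [Field F]

/-- The matrices of the basis vectors. -/
noncomputable def Pm (k : ℕ) : Matrix (Fin 8) (Fin 8) F := matF E8 F (Pz k)

/-- The matrix of a root element. -/
noncomputable def Ym (r : ℕ) (t : F) : Matrix (Fin 8) (Fin 8) F :=
  1 + t • matF E8 F (evZ (blB r)) + t ^ 2 • matF E8 F (evZ (blC r))

theorem code_lt14 (a : chevG2.Idx) : code chevG2 a < 14 := code_lt chevG2 a

theorem cd_dc {k : ℕ} (h : k < 8) : E8.cd (E8.dc k) = k := by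
  show k % 8 = k
  exact Nat.mod_eq_of_lt h

theorem bl_all {r : ℕ} (hr : r < 12) : (∀ p ∈ blB r, p.1 < 8 ∧ p.2.1 < 8) ∧ (∀ p ∈ blC r, p.1 < 8 ∧ p.2.1 < 8) := by
  have := bl_lt
  simp only [List.all_eq_true, List.mem_range, Bool.and_eq_true, decide_eq_true_eq] at this
  exact this r hr

/-- The relation for root elements. -/
theorem rel_root {r : ℕ} (hr : r < chevG2.nroots) (t : F) :
    Rel (D := chevG2) (Pm (F := F)) (chevG2.xMat F ⟨r, hr⟩ t) (Ym r t) := by
  intro a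
  have ha := code_lt14 a
  have hr12 : r < 12 := hr
  have hchk : chk r (code chevG2 a) = true := by
    have := chk_all
    simp only [List.all_eq_true, List.mem_range] at this
    exact this r hr12 _ ha
  simp only [chk, Bool.and_eq_true, List.all_eq_true, decide_eq_true_eq] at hchk
  obtain ⟨hcol, hall⟩ := hchk
  have hrows : ∀ e ∈ xCol chevG2 r (code chevG2 a), e.row < chevG2.rank + chevG2.nroots :=
    fun e he => (hcol e he).2
  rw [act_xMat _ ⟨r, hr⟩ t a hrows]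
  obtain ⟨hb, hc⟩ := bl_all hr12
  exact rel_col3 E8 Pz (blB r) (blC r) (code chevG2 a) (xCol chevG2 r (code chevG2 a)) t
    (fun p hp => cd_dc (hb p hp).1) (fun p hp => cd_dc (hb p hp).2) (fun p hp => cd_dc (hc p hp).1) (fun p hp => cd_dc (hc p hp).2)
    (fun e he => (hcol e he).1)
    (fun i hi j hj => (hall i hi j hj).1.1.1.1) (fun i hi j hj => (hall i hi j hj).1.1.1.2)
    (fun i hi j hj => (hall i hi j hj).1.1.2) (fun i hi j hj => (hall i hi j hj).1.2)
    (fun i hi j hj => (hall i hi j hj).2)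

/-- Linear functionals dual to the basis. -/
def ev (d : SpM) (M : Matrix (Fin 8) (Fin 8) F) : F := (d.map fun p => ((p.2.2 : ℤ) : F) * M (E8.dc p.1) (E8.dc p.2.1)).sum

lemma ev_sum (d : SpM) (w : chevG2.Idx → F) (M : chevG2.Idx → Matrix (Fin 8) (Fin 8) F) :
    ev d (∑ c, w c • M c) = ∑ c, w c * ev d (M c) := by
  induction d with
  | nil => simp [ev]
  | cons p d ih =>
    have e : ∀ N : Matrix (Fin 8) (Fin 8) F, ev (p :: d) N = ((p.2.2 : ℤ) : F) * N (E8.dc p.1) (E8.dc p.2.1) + ev d N := by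
      intro N
      simp [ev]
    simp only [e, ih, mul_add, Finset.sum_add_distrib]
    congr 1
    simp only [Matrix.sum_apply, Matrix.smul_apply, smul_eq_mul, Finset.mul_sum]
    apply Finset.sum_congr rfl
    intro c _
    ring

lemma ev_dual {k l : ℕ} (hk : k < 14) (hl : l < 14) : ev (dual k) (Pm l : Matrix (Fin 8) (Fin 8) F) = if l = k then 1 else 0 := by
  have h := dual_all
  simp only [List.all_eq_true, List.mem_range, Bool.and_eq_true, decide_eq_true_eq] at h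
  obtain ⟨h1, h2⟩ := h k hk l hl
  have e : ev (dual k) (Pm l : Matrix (Fin 8) (Fin 8) F) =
      (((dual k).map fun p => p.2.2 * Pz l p.1 p.2.1).sum : ℤ) := by
    have h3 : ∀ p ∈ dual k, ((p.2.2 : ℤ) : F) * (Pm l : Matrix (Fin 8) (Fin 8) F) (E8.dc p.1) (E8.dc p.2.1) =
        ((p.2.2 * Pz l p.1 p.2.1 : ℤ) : F) := by
      intro p hp
      rw [Pm, matF_apply, cd_dc (h2 p hp).1, cd_dc (h2 p hp).2, Int.cast_mul]
    rw [ev, List.map_congr_left h3, Int.cast_list_sum, List.map_map]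
    rfl
  rw [e, h1]
  split_ifs <;> simp

/-- An element of the group with the trivial lift is trivial. -/
theorem eq_one_of_rel {x : Matrix chevG2.Idx chevG2.Idx F} (h : Rel (D := chevG2) (Pm (F := F)) x 1) : x = 1 := by
  ext c₀ a
  have h1 := h a
  rw [mul_one, one_mul] at h1
  have h2 := congrArg (ev (dual (code chevG2 c₀))) h1
  rw [act, ev_sum] at h2
  rw [ev_dual (code_lt14 _) (code_lt14 _)] at h2
  rw [Finset.sum_eq_single c₀] at h2
  · rw [ev_dual (code_lt14 _) (code_lt14 _), if_pos rfl, mul_one] at h2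
    rw [h2, Matrix.one_apply]
    by_cases hca : c₀ = a
    · subst hca
      simp
    · rw [if_neg hca, if_neg]
      intro h'
      exact hca (code_inj chevG2 h').symm
  · intro c _ hc
    rw [ev_dual (code_lt14 _) (code_lt14 _), if_neg (fun h' => hc (code_inj chevG2 h')), mul_zero]
  · simp

end Main

end Cfsg.Agent.Lib.G2Oct.Lift
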