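import Mathlib
import Cfsg.Agent.Lib.G2Oct.Zorn

/-!
The stabilizer of an idempotent of the split octonions: block form, traces, and base change.
-/

set_option autoImplicit false
set_option linter.unusedSectionVars false
set_option linter.unusedSimpArgs false
set_option linter.unusedVariables false

namespace Cfsg.Agent.Lib.G2Oct.Stab

open Cfsg.Lie Matrix Cfsg.Agent.Lib.G2Oct.Zorn

variable {E : Type*} [Field E]

/-- The scalar part. -/
def sc (α β : E) : O E := ![α, 0, 0, 0, 0, 0, 0, β]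
/-- The first vector. -/
def uv (a : Fin 3 → E) : O E := ![0, a 0, a 1, a 2, 0, 0, 0, 0]
/-- The second vector. -/
def wv (b : Fin 3 → E) : O E := ![0, 0, 0, 0, b 0, b 1, b 2, 0]

theorem decomp (x : O E) : x = sc (x 0) (x 7) + uv (zA E x) + wv (zB E x) := by
  funext i
  fin_cases i <;> simp [sc, uv, wv]

theorem mul_uv_uv (a c : Fin 3 → E) : zornMul (uv a) (uv c) = wv (cross3 a c) := by
  funext i
  fin_cases i <;> simp [zm, uv, wv, cross3]

theorem mul_uv_wv (a d : Fin 3 → E) : zornMul (uv a) (wv d) = dot3 a d • (e0 : O E) := by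
  funext i
  fin_cases i <;> simp [zm, uv, wv, dot3, e0]

theorem e0_mul (x : O E) : zornMul e0 x = ![x 0, x 1, x 2, x 3, 0, 0, 0, 0] := by
  funext i
  fin_cases i <;> simp [zm, e0]

theorem mul_e0 (x : O E) : zornMul x e0 = ![x 0, 0, 0, 0, x 4, x 5, x 6, 0] := by
  funext i
  fin_cases i <;> simp [zm, e0]

theorem e0_mul_uv (a : Fin 3 → E) : zornMul e0 (uv a) = uv a := by
  funext i
  fin_cases i <;> simp [e0_mul, uv]

theorem uv_mul_e0 (a : Fin 3 → E) : zornMul (uv a) e0 = 0 := by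
  funext i
  fin_cases i <;> simp [mul_e0, uv]

theorem e0_mul_wv (a : Fin 3 → E) : zornMul e0 (wv a) = 0 := by
  funext i
  fin_cases i <;> simp [e0_mul, wv]

theorem wv_mul_e0 (a : Fin 3 → E) : zornMul (wv a) e0 = wv a := by
  funext i
  fin_cases i <;> simp [mul_e0, wv]

/-- The unit vectors of `E³`. -/
def ε (j : Fin 3) : Fin 3 → E := Pi.single j 1

/-- The block map. -/
def bk (A C : Matrix (Fin 3) (Fin 3) E) (x : O E) : O E :=
  sc (x 0) (x 7) + uv (A *ᵥ zA E x) + wv (C *ᵥ zB E x)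

/-- The cofactor matrix. -/
def cofM (A : Matrix (Fin 3) (Fin 3) E) : Matrix (Fin 3) (Fin 3) E :=
  Matrix.of fun i j => cross3 (A.col (j + 1)) (A.col (j + 2)) i

theorem cubic_eq (A : Matrix (Fin 3) (Fin 3) E) (hA : A.det = 1) :
    A ^ 3 - A.trace • A ^ 2 + (cofM A).trace • A - 1 = 0 := by
  have h : A ^ 3 - A.trace • A ^ 2 + (cofM A).trace • A - A.det • 1 = 0 := by
    ext i j
    fin_cases i <;> fin_cases j <;>
      simp [pow_succ, Matrix.mul_apply, Fin.sum_univ_three, Matrix.trace, cofM, cross3, Matrix.det_fin_three,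
        Matrix.one_apply, Matrix.col] <;> ring
  rw [hA, one_smul] at h
  exact h

/-- The stabilizer of the idempotent. -/
theorem stab_e0 {g : GL (Fin 8) E} (hg : g ∈ G2 E) (he : act g e0 = e0) :
    ∃ A : Matrix (Fin 3) (Fin 3) E, A.det = 1 ∧ Aᵀ * cofM A = 1 ∧ ∀ x, act g x = bk A (cofM A) x := by
  classical
  have h1 := act_one8 hg
  have he' : act g (one8 - e0) = one8 - e0 := by rw [act_sub, h1, he]
  -- the first vectors go to the first vectors
  have hu : ∀ a : Fin 3 → E, act g (uv a) = uv (zA E (act g (uv a))) := by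
    intro a
    have e1 := act_hom hg e0 (uv a)
    have e2 := act_hom hg (uv a) e0
    rw [e0_mul_uv, he, e0_mul] at e1
    rw [uv_mul_e0, act_zero, he, mul_e0] at e2
    funext i
    have e3 := congrFun e1 i
    have e4 := congrFun e2 i
    fin_cases i
    · simpa [uv] using (congrFun e2 0).symm
    · simp [uv]
    · simp [uv]
    · simp [uv]
    · simpa [uv] using e3
    · simpa [uv] using e3
    · simpa [uv] using e3
    · simpa [uv] using e3
  have hw : ∀ a : Fin 3 → E, act g (wv a) = wv (zB E (act g (wv a))) := by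
    intro a
    have e1 := act_hom hg e0 (wv a)
    have e2 := act_hom hg (wv a) e0
    rw [e0_mul_wv, act_zero, he, e0_mul] at e1
    rw [wv_mul_e0, he, mul_e0] at e2
    funext i
    have e3 := congrFun e1 i
    have e4 := congrFun e2 i
    fin_cases i
    · simpa [wv] using (congrFun e1 0).symm
    · simpa [wv] using (congrFun e1 1).symm
    · simpa [wv] using (congrFun e1 2).symm
    · simpa [wv] using (congrFun e1 3).symm
    · simp [wv]
    · simp [wv]
    · simp [wv]
    · simpa [wv] using e4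
  -- the scalars
  have hs : ∀ α β : E, act g (sc α β) = sc α β := by
    intro α β
    have e : sc α β = α • (e0 : O E) + β • ((one8 : O E) - e0) := by
      funext i
      fin_cases i <;> simp [sc, e0, one8]
    rw [e, act_add, act_smul, act_smul, he, he']
  -- the matrices
  let A : Matrix (Fin 3) (Fin 3) E := Matrix.of fun i j => zA E (act g (uv (ε j))) i
  let C : Matrix (Fin 3) (Fin 3) E := Matrix.of fun i j => zB E (act g (wv (ε j))) i
  have uv_eq : ∀ a : Fin 3 → E, uv a = a 0 • uv (ε 0) + a 1 • uv (ε 1) + a 2 • uv (ε 2) := by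
    intro a
    funext i
    fin_cases i <;> simp [uv, ε]
  have wv_eq : ∀ a : Fin 3 → E, wv a = a 0 • wv (ε 0) + a 1 • wv (ε 1) + a 2 • wv (ε 2) := by
    intro a
    funext i
    fin_cases i <;> simp [wv, ε]
  have hA : ∀ a : Fin 3 → E, zA E (act g (uv a)) = A *ᵥ a := by
    intro a
    funext i
    rw [uv_eq a, act_add, act_add, act_smul, act_smul, act_smul]
    simp only [Matrix.mulVec, dotProduct, Fin.sum_univ_three, A, Matrix.of_apply]
    fin_cases i <;> simp <;> ring
  have hC : ∀ a : Fin 3 → E, zB E (act g (wv a)) = C *ᵥ a := by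
    intro a
    funext i
    rw [wv_eq a, act_add, act_add, act_smul, act_smul, act_smul]
    simp only [Matrix.mulVec, dotProduct, Fin.sum_univ_three, C, Matrix.of_apply]
    fin_cases i <;> simp <;> ring
  have hu' : ∀ a, act g (uv a) = uv (A *ᵥ a) := fun a => by rw [hu a, hA]
  have hw' : ∀ a, act g (wv a) = wv (C *ᵥ a) := fun a => by rw [hw a, hC]
  -- relations
  have hcr : ∀ a c : Fin 3 → E, C *ᵥ cross3 a c = cross3 (A *ᵥ a) (A *ᵥ c) := by
    intro a c
    have e := act_hom hg (uv a) (uv c)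
    rw [mul_uv_uv, hw', hu', hu', mul_uv_uv] at e
    funext i
    have e2 := congrFun e (match i with | 0 => 4 | 1 => 5 | 2 => 6)
    fin_cases i <;> simpa [wv] using e2
  have hdt : ∀ a d : Fin 3 → E, dot3 (A *ᵥ a) (C *ᵥ d) = dot3 a d := by
    intro a d
    have e := act_hom hg (uv a) (wv d)
    rw [mul_uv_wv, act_smul, he, hu', hw', mul_uv_wv] at e
    have e2 := congrFun e 0
    simp only [Pi.smul_apply, e0, smul_eq_mul, Matrix.cons_val_zero, mul_one] at e2
    exact e2.symm
  have hCA : C = cofM A := by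
    ext i j
    have e1 : ∀ j : Fin 3, cross3 (ε (j + 1)) (ε (j + 2)) = (ε j : Fin 3 → E) := by
      intro j
      funext k
      fin_cases j <;> fin_cases k <;> simp [cross3, ε]
    have e2 : ∀ j : Fin 3, A *ᵥ ε j = A.col j := by
      intro j
      funext k
      simp [ε, Matrix.col]
    have e3 := congrFun (hcr (ε (j + 1)) (ε (j + 2))) i
    rw [e1, e2, e2] at e3
    have e4 : C i j = (C *ᵥ ε j) i := by
      simp [ε]
    rw [e4, e3]
    rfl
  have hAC : Aᵀ * C = 1 := by
    ext i j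
    have e1 := hdt (ε i) (ε j)
    have e2 : ∀ j : Fin 3, A *ᵥ ε j = A.col j := by
      intro j
      funext k
      simp [ε, Matrix.col]
    have e3 : ∀ j : Fin 3, C *ᵥ ε j = C.col j := by
      intro j
      funext k
      simp [ε, Matrix.col]
    rw [e2, e3] at e1
    have e4 : (Aᵀ * C) i j = dot3 (A.col i) (C.col j) := by
      simp [Matrix.mul_apply, Fin.sum_univ_three, dot3, Matrix.col]
    rw [e4, e1, Matrix.one_apply]
    fin_cases i <;> fin_cases j <;> simp [dot3, ε]
  have hdet : A.det = 1 := by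
    have e1 : A.det = (Aᵀ * C) 2 2 := by
      rw [hCA]
      simp [Matrix.mul_apply, Fin.sum_univ_three, cofM, cross3, Matrix.det_fin_three, Matrix.col]
      ring
    rw [e1, hAC]
    simp
  rw [hCA] at hAC
  refine ⟨A, hdet, hAC, ?_⟩
  intro x
  conv_lhs => rw [decomp x]
  rw [act_add, act_add, hs, hu', hw', hCA]
  rfl

theorem bk_apply_zA (A C : Matrix (Fin 3) (Fin 3) E) (x : O E) : zA E (bk A C x) = A *ᵥ zA E x := by
  funext i
  fin_cases i <;> simp [bk, sc, uv, wv]

theorem bk_apply_zB (A C : Matrix (Fin 3) (Fin 3) E) (x : O E) : zB E (bk A C x) = C *ᵥ zB E x := by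
  funext i
  fin_cases i <;> simp [bk, sc, uv, wv]

theorem bk_apply_0 (A C : Matrix (Fin 3) (Fin 3) E) (x : O E) : bk A C x 0 = x 0 := by
  simp [bk, sc, uv, wv]

theorem bk_apply_7 (A C : Matrix (Fin 3) (Fin 3) E) (x : O E) : bk A C x 7 = x 7 := by
  simp [bk, sc, uv, wv]

theorem bk_bk (A C A' C' : Matrix (Fin 3) (Fin 3) E) (x : O E) : bk A C (bk A' C' x) = bk (A * A') (C * C') x := by
  rw [bk, bk_apply_zA, bk_apply_zB, bk_apply_0, bk_apply_7, bk, Matrix.mulVec_mulVec, Matrix.mulVec_mulVec]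

theorem bk_one (x : O E) : bk (1 : Matrix (Fin 3) (Fin 3) E) 1 x = x := by
  rw [bk, Matrix.one_mulVec, Matrix.one_mulVec]
  exact (decomp x).symm

/-- Powers. -/
theorem act_pow_bk {g : GL (Fin 8) E} {A C : Matrix (Fin 3) (Fin 3) E} (h : ∀ x, act g x = bk A C x) (n : ℕ) (x : O E) :
    act (g ^ n) x = bk (A ^ n) (C ^ n) x := by
  induction n generalizing x with
  | zero => simp [act_one, bk_one]
  | succ n ih =>
    rw [pow_succ, act_mul, ih, h, bk_bk, pow_succ, pow_succ]

theorem gl_ext_act {g g' : GL (Fin 8) E} (h : ∀ x, act g x = act g' x) : g = g' := by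
  apply Units.ext
  apply Matrix.mulVec_injective
  funext x
  exact h x

/-- If the matrix has order dividing `n` so does the automorphism. -/
theorem pow_eq_one_of {g : GL (Fin 8) E} {A : Matrix (Fin 3) (Fin 3) E} (hAC : Aᵀ * cofM A = 1)
    (h : ∀ x, act g x = bk A (cofM A) x) {n : ℕ} (hn : A ^ n = 1) : g ^ n = 1 := by
  have hCn : (cofM A) ^ n = 1 := by
    have h1 : Commute Aᵀ (cofM A) := by
      have h2 : cofM A * Aᵀ = 1 := mul_eq_one_comm.mp hAC
      show Aᵀ * cofM A = cofM A * Aᵀ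
      rw [hAC, h2]
    have h3 : (Aᵀ) ^ n * (cofM A) ^ n = 1 := by
      rw [← h1.mul_pow, hAC, one_pow]
    rw [← Matrix.transpose_pow, hn, Matrix.transpose_one, one_mul] at h3
    exact h3
  apply gl_ext_act
  intro x
  rw [act_pow_bk h, hn, hCn, bk_one, act_one]

/-! ### Traces -/

/-- The matrix of left multiplication. -/
def Lm (x : O E) : Matrix (Fin 8) (Fin 8) E := Matrix.of fun i j => zornMul x (Pi.single j 1) i

theorem Lm_mulVec (x y : O E) : Lm x *ᵥ y = zornMul x y := by
  funext i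
  simp only [Matrix.mulVec, dotProduct, Fin.sum_univ_eight, Lm, Matrix.of_apply]
  fin_cases i <;> simp [zm, Pi.single_apply] <;> ring

theorem trace_eq_sum (M : Matrix (Fin 8) (Fin 8) E) : M.trace = ∑ i, (M *ᵥ Pi.single i 1) i := by
  simp [Matrix.trace]

theorem Lm_conj {h : GL (Fin 8) E} (hh : h ∈ G2 E) (x : O E) :
    Lm (act h x) * (h : Matrix (Fin 8) (Fin 8) E) = (h : Matrix (Fin 8) (Fin 8) E) * Lm x := by
  apply Matrix.mulVec_injective
  funext y
  rw [← Matrix.mulVec_mulVec, ← Matrix.mulVec_mulVec, Lm_mulVec, Lm_mulVec]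
  exact (act_hom hh x y).symm

/-- The conjugate of the matrix of the multiplication. -/
theorem trace_Lm_conj {h g : GL (Fin 8) E} (hh : h ∈ G2 E) (x : O E) :
    (Lm (act h x) * ((h * g * h⁻¹ : GL (Fin 8) E) : Matrix (Fin 8) (Fin 8) E)).trace =
      (Lm x * (g : Matrix (Fin 8) (Fin 8) E)).trace := by
  have e := Lm_conj hh x
  have e2 : ((h * g * h⁻¹ : GL (Fin 8) E) : Matrix (Fin 8) (Fin 8) E) =
      (h : Matrix (Fin 8) (Fin 8) E) * (g : Matrix (Fin 8) (Fin 8) E) * ((h⁻¹ : GL (Fin 8) E) : Matrix (Fin 8) (Fin 8) E) := by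
    simp
  rw [e2, ← mul_assoc, ← mul_assoc, e, mul_assoc (h : Matrix (Fin 8) (Fin 8) E), Matrix.trace_mul_comm, ← mul_assoc,
    ← mul_assoc]
  have : ((h⁻¹ : GL (Fin 8) E) : Matrix (Fin 8) (Fin 8) E) * (h : Matrix (Fin 8) (Fin 8) E) = 1 := by
    rw [← Units.val_mul, inv_mul_cancel, Units.val_one]
  rw [this, one_mul]

theorem trace_conj (h g : GL (Fin 8) E) :
    (((h * g * h⁻¹ : GL (Fin 8) E) : Matrix (Fin 8) (Fin 8) E)).trace = (g : Matrix (Fin 8) (Fin 8) E).trace := by
  have e2 : ((h * g * h⁻¹ : GL (Fin 8) E) : Matrix (Fin 8) (Fin 8) E) =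
      (h : Matrix (Fin 8) (Fin 8) E) * ((g : Matrix (Fin 8) (Fin 8) E) * ((h⁻¹ : GL (Fin 8) E) : Matrix (Fin 8) (Fin 8) E)) := by
    simp [mul_assoc]
  rw [e2, Matrix.trace_mul_comm, mul_assoc]
  have : ((h⁻¹ : GL (Fin 8) E) : Matrix (Fin 8) (Fin 8) E) * (h : Matrix (Fin 8) (Fin 8) E) = 1 := by
    rw [← Units.val_mul, inv_mul_cancel, Units.val_one]
  rw [this, mul_one]

/-- The trace of a block element. -/
theorem trace_bk {g : GL (Fin 8) E} {A C : Matrix (Fin 3) (Fin 3) E} (h : ∀ x, act g x = bk A C x) :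
    (g : Matrix (Fin 8) (Fin 8) E).trace = 2 + A.trace + C.trace := by
  rw [trace_eq_sum]
  have e : ∀ i, ((g : Matrix (Fin 8) (Fin 8) E) *ᵥ Pi.single i 1) i = bk A C (Pi.single i 1) i := fun i => by
    rw [← h]
    rfl
  simp only [e, Fin.sum_univ_eight]
  simp [bk, sc, uv, wv, Matrix.mulVec, dotProduct, Fin.sum_univ_three, Matrix.trace, Pi.single_apply]
  ring

/-- The trace with a multiplication. -/
theorem trace_Lm_bk {g : GL (Fin 8) E} {A C : Matrix (Fin 3) (Fin 3) E} (h : ∀ x, act g x = bk A C x) (r r' : E) :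
    (Lm (sc r r') * (g : Matrix (Fin 8) (Fin 8) E)).trace = r * (1 + A.trace) + r' * (1 + C.trace) := by
  rw [trace_eq_sum]
  have e : ∀ i, ((Lm (sc r r') * (g : Matrix (Fin 8) (Fin 8) E)) *ᵥ Pi.single i 1) i =
      zornMul (sc r r') (bk A C (Pi.single i 1)) i := fun i => by
    rw [← Matrix.mulVec_mulVec, Lm_mulVec, ← h]
    rfl
  simp only [e, Fin.sum_univ_eight]
  simp [zm, bk, sc, uv, wv, Matrix.mulVec, dotProduct, Fin.sum_univ_three, Matrix.trace, Pi.single_apply]
  ring

end Cfsg.Agent.Lib.G2Oct.Stab
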