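import Mathlib
import Cfsg.Agent.Lib.G2Oct.Lift
import Cfsg.Agent.Lib.G2Oct.Stab

/-!
Root elements of the Chevalley group of type `G₂` as explicit automorphisms of the split octonions, and the lifting of
the whole group.
-/

set_option autoImplicit false
set_option linter.unusedSectionVars false
set_option linter.unusedSimpArgs false
set_option linter.unusedVariables false

namespace Cfsg.Agent.Lib.G2Oct.Lift2

open Cfsg.Lie Matrix Cfsg.Agent.Lib.Chevalley.Reflect Cfsg.Agent.Lib.ChevIso.Act Cfsg.Agent.Lib.G2Oct.LiftT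
  Cfsg.Agent.Lib.G2Oct.Lift
open Cfsg.Agent.Lib.G2Oct.Zorn (O psiF phiF trF psiG phiG trG psiG_mem phiG_mem trG_mem psiG_act phiG_act trG_act)

variable {F : Type*} [Field F]

/-- Multiplication by a sparse matrix on a vector. -/
theorem mf_mulVec (bl : SpM) (x : Fin 8 → F) (i : Fin 8) :
    (matF E8 F (evZ bl) *ᵥ x) i = (bl.map fun p => if p.1 = i.val then ((p.2.2 : ℤ) : F) * (if h : p.2.1 < 8 then x ⟨p.2.1, h⟩ else 0) else 0).sum ∨
      ∃ p ∈ bl, 8 ≤ p.2.1 := by
  induction bl with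
  | nil =>
    left
    simp [evZ, matF_apply, Matrix.mulVec, dotProduct]
  | cons p bl ih =>
    by_cases hp : 8 ≤ p.2.1
    · exact Or.inr ⟨p, List.mem_cons_self, hp⟩
    · rcases ih with h | ⟨q, hq, hq8⟩
      · left
        have e : ∀ a b, evZ (p :: bl) a b = (if p.1 = a ∧ p.2.1 = b then p.2.2 else 0) + evZ bl a b := by
          intro a b
          simp [evZ]
        have hlt : p.2.1 < 8 := by omega
        have e2 : (matF E8 F (evZ (p :: bl)) *ᵥ x) i =
            (if p.1 = i.val then ((p.2.2 : ℤ) : F) * x ⟨p.2.1, hlt⟩ else 0) + (matF E8 F (evZ bl) *ᵥ x) i := by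
          simp only [Matrix.mulVec, dotProduct, matF_apply, e, Int.cast_add, add_mul, Finset.sum_add_distrib]
          congr 1
          rw [Finset.sum_eq_single (⟨p.2.1, hlt⟩ : Fin 8)]
          · by_cases h1 : p.1 = i.val
            · simp [h1, E8]
            · have : ¬ (p.1 = E8.cd i) := h1
              simp [this, h1]
          · intro j _ hj
            have : ¬ (p.1 = E8.cd i ∧ p.2.1 = E8.cd j) := by
              rintro ⟨-, h2⟩
              apply hj
              apply Fin.ext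
              exact h2.symm
            simp [this]
          · simp
        rw [e2, h]
        simp [hlt]
      · exact Or.inr ⟨q, List.mem_cons_of_mem _ hq, hq8⟩

theorem ym0 (t : F) (x : O F) : Ym 0 t *ᵥ x = trF 2 1 t x := by
  have h1 := mf_mulVec (blB 0) x
  have h2 := mf_mulVec (blC 0) x
  funext i
  simp only [Ym, Matrix.add_mulVec, Matrix.smul_mulVec, Matrix.one_mulVec, Pi.add_apply, Pi.smul_apply, smul_eq_mul]
  have h1' := (h1 i).resolve_right (by decide)
  have h2' := (h2 i).resolve_right (by decide)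
  rw [h1', h2']
  fin_cases i <;> simp [blB, blC, trF, zA, zB] <;> ring

theorem ym1 (t : F) (x : O F) : Ym 1 t *ᵥ x = trF 2 0 (-t) x := by
  have h1 := mf_mulVec (blB 1) x
  have h2 := mf_mulVec (blC 1) x
  funext i
  simp only [Ym, Matrix.add_mulVec, Matrix.smul_mulVec, Matrix.one_mulVec, Pi.add_apply, Pi.smul_apply, smul_eq_mul]
  have h1' := (h1 i).resolve_right (by decide)
  have h2' := (h2 i).resolve_right (by decide)
  rw [h1', h2']
  fin_cases i <;> simp [blB, blC, trF, zA, zB] <;> ring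

theorem ym2 (t : F) (x : O F) : Ym 2 t *ᵥ x = psiF (t • (![0, 0, -1] : Fin 3 → F)) x := by
  have h1 := mf_mulVec (blB 2) x
  have h2 := mf_mulVec (blC 2) x
  funext i
  simp only [Ym, Matrix.add_mulVec, Matrix.smul_mulVec, Matrix.one_mulVec, Pi.add_apply, Pi.smul_apply, smul_eq_mul]
  have h1' := (h1 i).resolve_right (by decide)
  have h2' := (h2 i).resolve_right (by decide)
  rw [h1', h2']
  fin_cases i <;> simp [blB, blC, psiF, zA, zB] <;> ring

theorem ym3 (t : F) (x : O F) : Ym 3 t *ᵥ x = phiF (t • (![0, -1, 0] : Fin 3 → F)) x := by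
  have h1 := mf_mulVec (blB 3) x
  have h2 := mf_mulVec (blC 3) x
  funext i
  simp only [Ym, Matrix.add_mulVec, Matrix.smul_mulVec, Matrix.one_mulVec, Pi.add_apply, Pi.smul_apply, smul_eq_mul]
  have h1' := (h1 i).resolve_right (by decide)
  have h2' := (h2 i).resolve_right (by decide)
  rw [h1', h2']
  fin_cases i <;> simp [blB, blC, phiF, zA, zB] <;> ring

theorem ym4 (t : F) (x : O F) : Ym 4 t *ᵥ x = phiF (t • (![1, 0, 0] : Fin 3 → F)) x := by
  have h1 := mf_mulVec (blB 4) x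
  have h2 := mf_mulVec (blC 4) x
  funext i
  simp only [Ym, Matrix.add_mulVec, Matrix.smul_mulVec, Matrix.one_mulVec, Pi.add_apply, Pi.smul_apply, smul_eq_mul]
  have h1' := (h1 i).resolve_right (by decide)
  have h2' := (h2 i).resolve_right (by decide)
  rw [h1', h2']
  fin_cases i <;> simp [blB, blC, phiF, zA, zB] <;> ring

theorem ym5 (t : F) (x : O F) : Ym 5 t *ᵥ x = trF 0 1 (-t) x := by
  have h1 := mf_mulVec (blB 5) x
  have h2 := mf_mulVec (blC 5) x
  funext i
  simp only [Ym, Matrix.add_mulVec, Matrix.smul_mulVec, Matrix.one_mulVec, Pi.add_apply, Pi.smul_apply, smul_eq_mul]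
  have h1' := (h1 i).resolve_right (by decide)
  have h2' := (h2 i).resolve_right (by decide)
  rw [h1', h2']
  fin_cases i <;> simp [blB, blC, trF, zA, zB] <;> ring

theorem ym6 (t : F) (x : O F) : Ym 6 t *ᵥ x = trF 1 0 (-t) x := by
  have h1 := mf_mulVec (blB 6) x
  have h2 := mf_mulVec (blC 6) x
  funext i
  simp only [Ym, Matrix.add_mulVec, Matrix.smul_mulVec, Matrix.one_mulVec, Pi.add_apply, Pi.smul_apply, smul_eq_mul]
  have h1' := (h1 i).resolve_right (by decide)
  have h2' := (h2 i).resolve_right (by decide)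
  rw [h1', h2']
  fin_cases i <;> simp [blB, blC, trF, zA, zB] <;> ring

theorem ym7 (t : F) (x : O F) : Ym 7 t *ᵥ x = psiF (t • (![1, 0, 0] : Fin 3 → F)) x := by
  have h1 := mf_mulVec (blB 7) x
  have h2 := mf_mulVec (blC 7) x
  funext i
  simp only [Ym, Matrix.add_mulVec, Matrix.smul_mulVec, Matrix.one_mulVec, Pi.add_apply, Pi.smul_apply, smul_eq_mul]
  have h1' := (h1 i).resolve_right (by decide)
  have h2' := (h2 i).resolve_right (by decide)
  rw [h1', h2']
  fin_cases i <;> simp [blB, blC, psiF, zA, zB] <;> ring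

theorem ym8 (t : F) (x : O F) : Ym 8 t *ᵥ x = psiF (t • (![0, -1, 0] : Fin 3 → F)) x := by
  have h1 := mf_mulVec (blB 8) x
  have h2 := mf_mulVec (blC 8) x
  funext i
  simp only [Ym, Matrix.add_mulVec, Matrix.smul_mulVec, Matrix.one_mulVec, Pi.add_apply, Pi.smul_apply, smul_eq_mul]
  have h1' := (h1 i).resolve_right (by decide)
  have h2' := (h2 i).resolve_right (by decide)
  rw [h1', h2']
  fin_cases i <;> simp [blB, blC, psiF, zA, zB] <;> ring

theorem ym9 (t : F) (x : O F) : Ym 9 t *ᵥ x = phiF (t • (![0, 0, -1] : Fin 3 → F)) x := by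
  have h1 := mf_mulVec (blB 9) x
  have h2 := mf_mulVec (blC 9) x
  funext i
  simp only [Ym, Matrix.add_mulVec, Matrix.smul_mulVec, Matrix.one_mulVec, Pi.add_apply, Pi.smul_apply, smul_eq_mul]
  have h1' := (h1 i).resolve_right (by decide)
  have h2' := (h2 i).resolve_right (by decide)
  rw [h1', h2']
  fin_cases i <;> simp [blB, blC, phiF, zA, zB] <;> ring

theorem ym10 (t : F) (x : O F) : Ym 10 t *ᵥ x = trF 0 2 (-t) x := by
  have h1 := mf_mulVec (blB 10) x
  have h2 := mf_mulVec (blC 10) x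
  funext i
  simp only [Ym, Matrix.add_mulVec, Matrix.smul_mulVec, Matrix.one_mulVec, Pi.add_apply, Pi.smul_apply, smul_eq_mul]
  have h1' := (h1 i).resolve_right (by decide)
  have h2' := (h2 i).resolve_right (by decide)
  rw [h1', h2']
  fin_cases i <;> simp [blB, blC, trF, zA, zB] <;> ring

theorem ym11 (t : F) (x : O F) : Ym 11 t *ᵥ x = trF 1 2 t x := by
  have h1 := mf_mulVec (blB 11) x
  have h2 := mf_mulVec (blC 11) x
  funext i
  simp only [Ym, Matrix.add_mulVec, Matrix.smul_mulVec, Matrix.one_mulVec, Pi.add_apply, Pi.smul_apply, smul_eq_mul]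
  have h1' := (h1 i).resolve_right (by decide)
  have h2' := (h2 i).resolve_right (by decide)
  rw [h1', h2']
  fin_cases i <;> simp [blB, blC, trF, zA, zB] <;> ring


theorem det_family {p : ℕ} [Fact p.Prime] [CharP F p] (Y : F → GL (Fin 8) F) (hadd : ∀ s s', Y s * Y s' = Y (s + s'))
    (h0 : Y 0 = 1) (t : F) : (Y t : Matrix (Fin 8) (Fin 8) F).det = 1 := by
  have hpow : ∀ n : ℕ, Y t ^ n = Y ((n : F) * t) := by
    intro n
    induction n with
    | zero => simp [h0]
    | succ n ih =>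
      rw [pow_succ, ih, hadd]
      congr 1
      push_cast
      ring
  have h1 : Y t ^ p = 1 := by
    rw [hpow, CharP.cast_eq_zero F p, zero_mul, h0]
  have h2 : ((Y t : Matrix (Fin 8) (Fin 8) F).det) ^ p = 1 := by
    rw [← Matrix.det_pow, ← Units.val_pow_eq_pow_val, h1, Units.val_one, Matrix.det_one]
  have h3 : ((Y t : Matrix (Fin 8) (Fin 8) F).det - 1) ^ p = 0 := by
    rw [sub_pow_char, h2, one_pow, sub_self]
  have h4 := pow_eq_zero_iff (Nat.Prime.ne_zero Fact.out) |>.mp h3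
  exact sub_eq_zero.mp h4

theorem psi_family {p : ℕ} [Fact p.Prime] [CharP F p] (v : Fin 3 → F) (t : F) :
    ((psiG (t • v) : GL (Fin 8) F) : Matrix (Fin 8) (Fin 8) F).det = 1 := by
  refine det_family (p := p) (fun s => psiG (s • v)) ?_ ?_ t
  · intro s s'
    apply Cfsg.Agent.Lib.G2Oct.Stab.gl_ext_act
    intro x
    rw [Cfsg.Agent.Lib.G2Oct.Zorn.act_mul]
    simp only [psiG_act]
    exact Cfsg.Agent.Lib.G2Oct.Zorn.psi_psi v s s' x
  · apply Cfsg.Agent.Lib.G2Oct.Stab.gl_ext_act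
    intro x
    rw [Cfsg.Agent.Lib.G2Oct.Zorn.act_one]
    simp only [psiG_act, zero_smul]
    exact Cfsg.Agent.Lib.G2Oct.Zorn.psi_zero x

theorem phi_family {p : ℕ} [Fact p.Prime] [CharP F p] (v : Fin 3 → F) (t : F) :
    ((phiG (t • v) : GL (Fin 8) F) : Matrix (Fin 8) (Fin 8) F).det = 1 := by
  refine det_family (p := p) (fun s => phiG (s • v)) ?_ ?_ t
  · intro s s'
    apply Cfsg.Agent.Lib.G2Oct.Stab.gl_ext_act
    intro x
    rw [Cfsg.Agent.Lib.G2Oct.Zorn.act_mul]
    simp only [phiG_act]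
    exact Cfsg.Agent.Lib.G2Oct.Zorn.phi_phi v s s' x
  · apply Cfsg.Agent.Lib.G2Oct.Stab.gl_ext_act
    intro x
    rw [Cfsg.Agent.Lib.G2Oct.Zorn.act_one]
    simp only [phiG_act, zero_smul]
    exact Cfsg.Agent.Lib.G2Oct.Zorn.phi_zero x

theorem tr_family {p : ℕ} [Fact p.Prime] [CharP F p] (i j : Fin 3) (hij : i ≠ j) (t : F) :
    ((trG i j hij t : GL (Fin 8) F) : Matrix (Fin 8) (Fin 8) F).det = 1 := by
  refine det_family (p := p) (fun s => trG i j hij s) ?_ ?_ t
  · intro s s'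
    apply Cfsg.Agent.Lib.G2Oct.Stab.gl_ext_act
    intro x
    rw [Cfsg.Agent.Lib.G2Oct.Zorn.act_mul]
    simp only [trG_act]
    exact Cfsg.Agent.Lib.G2Oct.Zorn.tr_tr i j hij s s' x
  · apply Cfsg.Agent.Lib.G2Oct.Stab.gl_ext_act
    intro x
    rw [Cfsg.Agent.Lib.G2Oct.Zorn.act_one]
    simp only [trG_act]
    exact Cfsg.Agent.Lib.G2Oct.Zorn.tr_zero i j x

/-- Matching a lift and its matrix. -/
theorem coe_eq_of_mulVec {y : GL (Fin 8) F} {M : Matrix (Fin 8) (Fin 8) F}
    (h : ∀ x, M *ᵥ x = Cfsg.Agent.Lib.G2Oct.Zorn.act y x) : (y : Matrix (Fin 8) (Fin 8) F) = M := by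
  apply Matrix.mulVec_injective
  funext x
  exact (h x).symm

/-- The lift of a root element. -/
theorem lift_root {p : ℕ} [Fact p.Prime] [CharP F p] (r : Fin chevG2.nroots) (t : F) :
    ∃ y : GL (Fin 8) F, y ∈ G2 F ∧ (y : Matrix (Fin 8) (Fin 8) F).det = 1 ∧
      Rel (D := chevG2) (Pm (F := F)) (chevG2.xMat F r t) (y : Matrix (Fin 8) (Fin 8) F) := by
  have hr := rel_root (F := F) r.2 t
  obtain ⟨r, hlt⟩ := r
  have hlt' : r < 12 := hlt
  interval_cases r
  · refine ⟨trG 2 1 (by decide) t, trG_mem _ _ _ _, tr_family (p := p) _ _ _ _, ?_⟩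
    rw [coe_eq_of_mulVec (M := Ym 0 t) (fun x => by rw [ym0, trG_act])]
    exact hr
  · refine ⟨trG 2 0 (by decide) (-t), trG_mem _ _ _ _, tr_family (p := p) _ _ _ _, ?_⟩
    rw [coe_eq_of_mulVec (M := Ym 1 t) (fun x => by rw [ym1, trG_act])]
    exact hr
  · refine ⟨psiG (t • (![0, 0, -1] : Fin 3 → F)), psiG_mem _, psi_family (p := p) _ t, ?_⟩
    rw [coe_eq_of_mulVec (M := Ym 2 t) (fun x => by rw [ym2, psiG_act])]
    exact hr
  · refine ⟨phiG (t • (![0, -1, 0] : Fin 3 → F)), phiG_mem _, phi_family (p := p) _ t, ?_⟩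
    rw [coe_eq_of_mulVec (M := Ym 3 t) (fun x => by rw [ym3, phiG_act])]
    exact hr
  · refine ⟨phiG (t • (![1, 0, 0] : Fin 3 → F)), phiG_mem _, phi_family (p := p) _ t, ?_⟩
    rw [coe_eq_of_mulVec (M := Ym 4 t) (fun x => by rw [ym4, phiG_act])]
    exact hr
  · refine ⟨trG 0 1 (by decide) (-t), trG_mem _ _ _ _, tr_family (p := p) _ _ _ _, ?_⟩
    rw [coe_eq_of_mulVec (M := Ym 5 t) (fun x => by rw [ym5, trG_act])]
    exact hr
  · refine ⟨trG 1 0 (by decide) (-t), trG_mem _ _ _ _, tr_family (p := p) _ _ _ _, ?_⟩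
    rw [coe_eq_of_mulVec (M := Ym 6 t) (fun x => by rw [ym6, trG_act])]
    exact hr
  · refine ⟨psiG (t • (![1, 0, 0] : Fin 3 → F)), psiG_mem _, psi_family (p := p) _ t, ?_⟩
    rw [coe_eq_of_mulVec (M := Ym 7 t) (fun x => by rw [ym7, psiG_act])]
    exact hr
  · refine ⟨psiG (t • (![0, -1, 0] : Fin 3 → F)), psiG_mem _, psi_family (p := p) _ t, ?_⟩
    rw [coe_eq_of_mulVec (M := Ym 8 t) (fun x => by rw [ym8, psiG_act])]
    exact hr
  · refine ⟨phiG (t • (![0, 0, -1] : Fin 3 → F)), phiG_mem _, phi_family (p := p) _ t, ?_⟩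
    rw [coe_eq_of_mulVec (M := Ym 9 t) (fun x => by rw [ym9, phiG_act])]
    exact hr
  · refine ⟨trG 0 2 (by decide) (-t), trG_mem _ _ _ _, tr_family (p := p) _ _ _ _, ?_⟩
    rw [coe_eq_of_mulVec (M := Ym 10 t) (fun x => by rw [ym10, trG_act])]
    exact hr
  · refine ⟨trG 1 2 (by decide) t, trG_mem _ _ _ _, tr_family (p := p) _ _ _ _, ?_⟩
    rw [coe_eq_of_mulVec (M := Ym 11 t) (fun x => by rw [ym11, trG_act])]
    exact hr

/-- The lift of the group. -/
theorem exists_lift {p : ℕ} [Fact p.Prime] [CharP F p] {g : GL chevG2.Idx F} (hg : g ∈ chevG2.group F) :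
    ∃ y : GL (Fin 8) F, y ∈ G2 F ∧ (y : Matrix (Fin 8) (Fin 8) F).det = 1 ∧
      Rel (D := chevG2) (Pm (F := F)) (g : Matrix chevG2.Idx chevG2.Idx F) (y : Matrix (Fin 8) (Fin 8) F) := by
  rw [ChevalleyDatum.group] at hg
  induction hg using Subgroup.closure_induction with
  | mem x hx =>
    obtain ⟨r, t, hx⟩ := hx
    rw [hx]
    exact lift_root (p := p) r t
  | one =>
    refine ⟨1, Subgroup.one_mem _, ?_, ?_⟩
    · simp
    · rw [Units.val_one, Units.val_one]
      exact Rel.one _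
  | mul x y _ _ hx hy =>
    obtain ⟨u, hu, hdu, hru⟩ := hx
    obtain ⟨v, hv, hdv, hrv⟩ := hy
    refine ⟨u * v, Subgroup.mul_mem _ hu hv, ?_, ?_⟩
    · rw [Units.val_mul, Matrix.det_mul, hdu, hdv, one_mul]
    · rw [Units.val_mul, Units.val_mul]
      exact hru.mul hrv
  | inv x _ hx =>
    obtain ⟨u, hu, hdu, hru⟩ := hx
    refine ⟨u⁻¹, Subgroup.inv_mem _ hu, ?_, ?_⟩
    · have h1 : ((u⁻¹ : GL (Fin 8) F) : Matrix (Fin 8) (Fin 8) F) * (u : Matrix (Fin 8) (Fin 8) F) = 1 := by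
        rw [← Units.val_mul, inv_mul_cancel, Units.val_one]
      have h2 := congrArg Matrix.det h1
      rw [Matrix.det_mul, hdu, mul_one, Matrix.det_one] at h2
      exact h2
    · exact hru.inv (by rw [← Units.val_mul, mul_inv_cancel, Units.val_one])
        (by rw [← Units.val_mul, inv_mul_cancel, Units.val_one])
        (by rw [← Units.val_mul, mul_inv_cancel, Units.val_one])

theorem Rel_pow {g : Matrix chevG2.Idx chevG2.Idx F} {y : Matrix (Fin 8) (Fin 8) F}
    (h : Rel (D := chevG2) (Pm (F := F)) g y) (n : ℕ) : Rel (D := chevG2) (Pm (F := F)) (g ^ n) (y ^ n) := by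
  induction n with
  | zero => simpa using Rel.one _
  | succ n ih =>
    rw [pow_succ, pow_succ]
    exact ih.mul h

/-- Powers of the lift control powers of the element. -/
theorem pow_eq_one_of_lift {g : GL chevG2.Idx F} {y : GL (Fin 8) F}
    (h : Rel (D := chevG2) (Pm (F := F)) (g : Matrix chevG2.Idx chevG2.Idx F) (y : Matrix (Fin 8) (Fin 8) F)) {n : ℕ}
    (hn : y ^ n = 1) : g ^ n = 1 := by
  have h1 := Rel_pow h n
  have h2 : ((y : Matrix (Fin 8) (Fin 8) F)) ^ n = 1 := by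
    rw [← Units.val_pow_eq_pow_val, hn, Units.val_one]
  rw [h2] at h1
  have h3 := eq_one_of_rel h1
  apply Units.ext
  rw [Units.val_pow_eq_pow_val, h3, Units.val_one]

end Cfsg.Agent.Lib.G2Oct.Lift2
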