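import Mathlib
import Cfsg.Agent.Lib.ChevAut.Basic
import Cfsg.Agent.Lib.Chevalley.Tbl.G2Sys

/-!
Elements of small characteristic in the Chevalley group of type `G₂`, of orders `25`, `9`, `8`, `12`: products of root
elements with parameter one, whose powers are computed over the integers.
-/

set_option autoImplicit false
set_option linter.unusedSectionVars false
set_option linter.unusedSimpArgs false
set_option linter.unusedVariables false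
set_option maxRecDepth 100000

namespace Cfsg.Agent.Lib.G2Oct.LowW

open Cfsg.Lie Matrix Cfsg.Agent.Lib.Chevalley.Reflect Cfsg.Agent.Lib.ChevBN.Elem

/-- The integer matrix of a root element with parameter one. -/
def xZ (r : ℕ) : Matrix chevG2.Idx chevG2.Idx ℤ :=
  Matrix.of fun i j => (if i = j then 1 else 0) +
    ((xCol chevG2 r (code chevG2 j)).map fun e => if e.row = code chevG2 i then e.m else 0).sum

/-- A matrix from a literal. -/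
def matZ (L : List (List ℤ)) : Matrix chevG2.Idx chevG2.Idx ℤ :=
  Matrix.of fun i j => (L.getD (code chevG2 i) []).getD (code chevG2 j) 0

/-- A matrix as a plain function. -/
def ff (M : Matrix chevG2.Idx chevG2.Idx ℤ) : chevG2.Idx → chevG2.Idx → ℤ := fun i j => M i j

variable {F : Type*} [Field F]

/-- The reduction of integer matrices. -/
noncomputable abbrev cH : Matrix chevG2.Idx chevG2.Idx ℤ →+* Matrix chevG2.Idx chevG2.Idx F :=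
  (Int.castRingHom F).mapMatrix

theorem list_cast (L : Cl) (c : ℕ) :
    ((L.map fun e => if e.row = c then (e.m : F) * (1 : F) ^ e.deg else 0).sum) =
      (((L.map fun e => if e.row = c then e.m else 0).sum : ℤ) : F) := by
  induction L with
  | nil => simp
  | cons e L ih =>
    simp only [List.map_cons, List.sum_cons, Int.cast_add, ih]
    congr 1
    split_ifs <;> simp

theorem xMat_one (r : Fin chevG2.nroots) : chevG2.xMat F r 1 = cH (xZ r) := by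
  classical
  ext i j
  rw [xMat_entry]
  simp only [cH, RingHom.mapMatrix_apply, Matrix.map_apply, xZ, Matrix.of_apply, eq_intCast, Int.cast_add]
  rw [list_cast]
  congr 1
  split_ifs <;> simp

theorem cH_one_iff {p : ℕ} [CharP F p] (M : Matrix chevG2.Idx chevG2.Idx ℤ) :
    cH (F := F) M = 1 ↔ ∀ i j, (p : ℤ) ∣ M i j - (1 : Matrix chevG2.Idx chevG2.Idx ℤ) i j := by
  classical
  constructor
  · intro h i j
    have h1 := congrFun (congrFun h i) j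
    simp only [cH, RingHom.mapMatrix_apply, Matrix.map_apply, eq_intCast] at h1
    rw [← CharP.intCast_eq_zero_iff F p]
    rw [Int.cast_sub, h1, Matrix.one_apply, Matrix.one_apply]
    split_ifs <;> simp
  · intro h
    ext i j
    have h1 := h i j
    rw [← CharP.intCast_eq_zero_iff F p, Int.cast_sub, sub_eq_zero] at h1
    simp only [cH, RingHom.mapMatrix_apply, Matrix.map_apply, eq_intCast]
    rw [h1, Matrix.one_apply, Matrix.one_apply]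
    split_ifs <;> simp

theorem pow_iff {g : GL chevG2.Idx F} {W : Matrix chevG2.Idx chevG2.Idx ℤ}
    (h : (g : Matrix chevG2.Idx chevG2.Idx F) = cH W) (n : ℕ) : g ^ n = 1 ↔ cH (W ^ n) = (1 : Matrix chevG2.Idx chevG2.Idx F) := by
  rw [map_pow, ← h]
  constructor
  · intro h1
    rw [← Units.val_pow_eq_pow_val, h1, Units.val_one]
  · intro h1
    apply Units.ext
    rw [Units.val_pow_eq_pow_val, h1, Units.val_one]

/-- The relations of the group. -/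
theorem hA : Cfsg.Agent.Lib.ChevBN.Elem.AddRel chevG2 F := (Cfsg.Agent.Lib.Chevalley.Tbl.G2.sys (F := F)).toAddRel

theorem root_coe {r : ℕ} (hr : r < chevG2.nroots) :
    ((X (hA (F := F)) r 1 : GL chevG2.Idx F) : Matrix chevG2.Idx chevG2.Idx F) = cH (xZ r) := by
  rw [coe_X, x_eq_xMat chevG2 hr]
  exact xMat_one ⟨r, hr⟩

theorem root_mem (r : ℕ) : X (hA (F := F)) r 1 ∈ chevG2.group F := Cfsg.Agent.Lib.ChevAut.X_mem_group _ _ _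

/-- A literal matrix. -/
def Lx7 : List (List ℤ) := [[1, 0, 0, 0, 0, 0, 1, 0, 0, 0, 0, 0, 0, 0], [0, 1, 0, 0, 0, 0, 0, 0, 0, 0, 0, 0, 0, 0], [0, 0, 1, 0, 0, 0, 0, 0, 0, 0, 0, 0, 0, 0], [0, 0, 0, 1, 0, 0, 0, 0, 0, 0, 0, 0, 0, 0], [0, 0, 0, -1, 1, 0, 0, 0, 0, 0, 0, 0, 0, 0], [0, 0, 0, -1, 2, 1, 0, 0, 0, 0, 0, 0, 0, 0], [0, 0, 0, 0, 0, 0, 1, 0, 0, 0, 0, 0, 0, 0], [0, 0, 0, -1, 3, 3, 0, 1, 0, 0, 0, 0, 0, 0], [0, 0, 0, 0, 0, 0, 0, 0, 1, 0, 0, 0, 0, 0], [-2, 1, 0, 0, 0, 0, -1, 0, 0, 1, 0, 0, 0, 0], [0, 0, 0, 0, 0, 0, 0, 0, -1, 0, 1, 0, 0, 0], [0, 0, 0, 0, 0, 0, 0, 0, 1, 0, -2, 1, 0, 0], [0, 0, 0, 0, 0, 0, 0, 0, 1, 0, -3, 3, 1, 0], [0, 0, 0, 0, 0, 0, 0, 0, 0, 0, 0, 0, 0, 1]]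

theorem xZ7 : ∀ i j : chevG2.Idx, ff (xZ 7) i j = ff (matZ Lx7) i j := by
  decide +kernel

/-- A literal matrix. -/
def Lx6 : List (List ℤ) := [[1, 0, 0, 0, 0, 0, 0, 0, 0, 0, 0, 0, 0, 0], [0, 1, 0, 0, 0, 0, 0, 1, 0, 0, 0, 0, 0, 0], [0, 0, 1, 0, 0, 0, 0, 0, 0, 0, 0, 0, 0, 0], [0, 0, -1, 1, 0, 0, 0, 0, 0, 0, 0, 0, 0, 0], [0, 0, 0, 0, 1, 0, 0, 0, 0, 0, 0, 0, 0, 0], [0, 0, 0, 0, 0, 1, 0, 0, 0, 0, 0, 0, 0, 0], [0, 0, 0, 0, 0, -1, 1, 0, 0, 0, 0, 0, 0, 0], [0, 0, 0, 0, 0, 0, 0, 1, 0, 0, 0, 0, 0, 0], [3, -2, 0, 0, 0, 0, 0, -1, 1, 0, 0, 0, 0, 0], [0, 0, 0, 0, 0, 0, 0, 0, 0, 1, 0, 0, 0, 0], [0, 0, 0, 0, 0, 0, 0, 0, 0, 1, 1, 0, 0, 0], [0, 0, 0, 0, 0, 0, 0, 0, 0, 0, 0, 1, 0, 0], [0, 0, 0, 0, 0, 0, 0, 0, 0, 0, 0, 0, 1, 0], [0, 0, 0, 0, 0, 0, 0, 0, 0, 0, 0, 0, 1, 1]]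

theorem xZ6 : ∀ i j : chevG2.Idx, ff (xZ 6) i j = ff (matZ Lx6) i j := by
  decide +kernel

/-- A literal matrix. -/
def Lx8 : List (List ℤ) := [[1, 0, 0, 0, 0, 1, 0, 0, 0, 0, 0, 0, 0, 0], [0, 1, 0, 0, 0, 3, 0, 0, 0, 0, 0, 0, 0, 0], [0, 0, 1, 0, 0, 0, 0, 0, 0, 0, 0, 0, 0, 0], [0, 0, 0, 1, 0, 0, 0, 0, 0, 0, 0, 0, 0, 0], [0, 0, -1, 0, 1, 0, 0, 0, 0, 0, 0, 0, 0, 0], [0, 0, 0, 0, 0, 1, 0, 0, 0, 0, 0, 0, 0, 0], [0, 0, 1, 0, -2, 0, 1, 0, 0, 0, 0, 0, 0, 0], [0, 0, 0, 0, 0, 0, 0, 1, 0, 0, 0, 0, 0, 0], [0, 0, 1, 0, -3, 0, 3, 0, 1, 0, 0, 0, 0, 0], [0, 0, 0, 0, 0, 0, 0, -1, 0, 1, 0, 0, 0, 0], [1, -1, 0, 0, 0, -1, 0, 0, 0, 0, 1, 0, 0, 0], [0, 0, 0, 0, 0, 0, 0, -1, 0, 2, 0, 1, 0, 0], [0, 0, 0, 0, 0, 0, 0, 0, 0, 0, 0, 0, 1, 0], [0, 0, 0, 0, 0, 0, 0, -1, 0, 3, 0, 3, 0, 1]]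

theorem xZ8 : ∀ i j : chevG2.Idx, ff (xZ 8) i j = ff (matZ Lx8) i j := by
  decide +kernel

/-- A literal matrix. -/
def Lx9 : List (List ℤ) := [[1, 0, 0, 0, 2, 0, 0, 0, 0, 0, 0, 0, 0, 0], [0, 1, 0, 0, 3, 0, 0, 0, 0, 0, 0, 0, 0, 0], [0, 0, 1, 0, 0, 0, 0, 0, 0, 0, 0, 0, 0, 0], [0, 0, 0, 1, 0, 0, 0, 0, 0, 0, 0, 0, 0, 0], [0, 0, 0, 0, 1, 0, 0, 0, 0, 0, 0, 0, 0, 0], [0, 0, 1, 0, 0, 1, 0, 0, 0, 0, 0, 0, 0, 0], [0, 0, 0, 1, 0, 0, 1, 0, 0, 0, 0, 0, 0, 0], [0, 0, 0, 0, 0, 0, 0, 1, 0, 0, 0, 0, 0, 0], [0, 0, 0, 0, 0, 0, 0, 0, 1, 0, 0, 0, 0, 0], [0, 0, -1, 0, 0, -2, 0, 0, 0, 1, 0, 0, 0, 0], [0, 0, 0, 1, 0, 0, 2, 0, 0, 0, 1, 0, 0, 0], [-1, 0, 0, 0, -1, 0, 0, 0, 0, 0, 0, 1, 0, 0], [0, 0, 1, 0, 0, 3, 0, 0, 0, -3, 0, 0, 1, 0], [0, 0, 0, -1, 0, 0, -3, 0, 0, 0, -3, 0, 0, 1]]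

theorem xZ9 : ∀ i j : chevG2.Idx, ff (xZ 9) i j = ff (matZ Lx9) i j := by
  decide +kernel

/-- A literal matrix. -/
def Lx2 : List (List ℤ) := [[1, 0, 0, 0, 0, 0, 0, 0, 0, 0, 0, -2, 0, 0], [0, 1, 0, 0, 0, 0, 0, 0, 0, 0, 0, -3, 0, 0], [0, 0, 1, 0, 0, 3, 0, 0, 0, -3, 0, 0, 1, 0], [0, 0, 0, 1, 0, 0, 3, 0, 0, 0, 3, 0, 0, -1], [1, 0, 0, 0, 1, 0, 0, 0, 0, 0, 0, -1, 0, 0], [0, 0, 0, 0, 0, 1, 0, 0, 0, -2, 0, 0, 1, 0], [0, 0, 0, 0, 0, 0, 1, 0, 0, 0, 2, 0, 0, -1], [0, 0, 0, 0, 0, 0, 0, 1, 0, 0, 0, 0, 0, 0], [0, 0, 0, 0, 0, 0, 0, 0, 1, 0, 0, 0, 0, 0], [0, 0, 0, 0, 0, 0, 0, 0, 0, 1, 0, 0, -1, 0], [0, 0, 0, 0, 0, 0, 0, 0, 0, 0, 1, 0, 0, -1], [0, 0, 0, 0, 0, 0, 0, 0, 0, 0, 0, 1, 0, 0], [0, 0, 0, 0, 0, 0, 0, 0, 0, 0, 0, 0, 1, 0], [0, 0, 0, 0, 0, 0, 0, 0, 0, 0, 0, 0, 0, 1]]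

theorem xZ2 : ∀ i j : chevG2.Idx, ff (xZ 2) i j = ff (matZ Lx2) i j := by
  decide +kernel

/-- A literal matrix. -/
def W1 : List (List ℤ) := [[1, 0, 0, 0, 0, -1, 1, 0, 0, 0, 0, 0, 0, 0], [0, 1, 0, 0, 0, 0, 0, 1, 0, 0, 0, 0, 0, 0], [0, 0, 1, 0, 0, 0, 0, 0, 0, 0, 0, 0, 0, 0], [0, 0, -1, 1, 0, 0, 0, 0, 0, 0, 0, 0, 0, 0], [0, 0, 1, -1, 1, 0, 0, 0, 0, 0, 0, 0, 0, 0], [0, 0, 1, -1, 2, 1, 0, 0, 0, 0, 0, 0, 0, 0], [0, 0, 0, 0, 0, -1, 1, 0, 0, 0, 0, 0, 0, 0], [0, 0, 1, -1, 3, 3, 0, 1, 0, 0, 0, 0, 0, 0], [3, -2, 0, 0, 0, 0, 0, -1, 1, 0, 0, 0, 0, 0], [-2, 1, 0, 0, 0, 1, -1, 1, 0, 1, 0, 0, 0, 0], [-3, 2, 0, 0, 0, 0, 0, 1, -1, 1, 1, 0, 0, 0], [3, -2, 0, 0, 0, 0, 0, -1, 1, -2, -2, 1, 0, 0], [3, -2, 0, 0, 0, 0, 0, -1, 1, -3, -3, 3, 1, 0], [0, 0, 0, 0, 0, 0, 0, 0, 0, 0, 0, 0, 1, 1]]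

theorem eW1 : ∀ i j : chevG2.Idx, ff (matZ Lx7 * matZ Lx6) i j = ff (matZ W1) i j := by
  decide +kernel

/-- A literal matrix. -/
def W2 : List (List ℤ) := [[1, 0, -1, 1, -2, -3, 2, 0, 0, 0, 0, 0, 0, 0], [0, 1, 1, -1, 3, 3, 0, 2, 0, 0, 0, 0, 0, 0], [0, 0, 1, 0, 0, 0, 0, 0, 0, 0, 0, 0, 0, 0], [0, 0, -2, 1, 0, 0, 0, 0, 0, 0, 0, 0, 0, 0], [0, 0, 3, -2, 1, 0, 0, 0, 0, 0, 0, 0, 0, 0], [0, 0, 5, -4, 4, 1, 0, 0, 0, 0, 0, 0, 0, 0], [0, 0, -1, 1, -2, -2, 1, 0, 0, 0, 0, 0, 0, 0], [0, 0, 9, -8, 12, 6, 0, 1, 0, 0, 0, 0, 0, 0], [6, -4, -1, 1, -3, -6, 3, -4, 1, 0, 0, 0, 0, 0], [-4, 2, 2, -2, 5, 8, -4, 3, 0, 1, 0, 0, 0, 0], [-11, 7, 1, -1, 3, 7, -4, 6, -2, 2, 1, 0, 0, 0], [19, -12, -1, 1, -3, -8, 5, -9, 4, -6, -4, 1, 0, 0], [33, -21, -1, 1, -3, -9, 6, -14, 8, -15, -12, 6, 1, 0], [3, -2, 0, 0, 0, 0, 0, -1, 1, -3, -3, 3, 2, 1]]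

theorem eW2 : ∀ i j : chevG2.Idx, ff (matZ W1 * matZ W1) i j = ff (matZ W2) i j := by
  decide +kernel

/-- A literal matrix. -/
def W3 : List (List ℤ) := [[1, 0, -7, 6, -8, -6, 3, 0, 0, 0, 0, 0, 0, 0], [0, 1, 10, -9, 15, 9, 0, 3, 0, 0, 0, 0, 0, 0], [0, 0, 1, 0, 0, 0, 0, 0, 0, 0, 0, 0, 0, 0], [0, 0, -3, 1, 0, 0, 0, 0, 0, 0, 0, 0, 0, 0], [0, 0, 6, -3, 1, 0, 0, 0, 0, 0, 0, 0, 0, 0], [0, 0, 14, -9, 6, 1, 0, 0, 0, 0, 0, 0, 0, 0], [0, 0, -6, 5, -6, -3, 1, 0, 0, 0, 0, 0, 0, 0], [0, 0, 36, -27, 27, 9, 0, 1, 0, 0, 0, 0, 0, 0], [9, -6, -15, 14, -27, -27, 9, -9, 1, 0, 0, 0, 0, 0], [-6, 3, 20, -18, 30, 26, -9, 6, 0, 1, 0, 0, 0, 0], [-24, 15, 18, -17, 35, 42, -17, 18, -3, 3, 1, 0, 0, 0], [58, -36, -22, 21, -46, -65, 30, -36, 9, -12, -6, 1, 0, 0], [144, -90, -28, 27, -63, -105, 54, -77, 27, -42, -27, 9, 1, 0], [36, -23, -1, 1, -3, -9, 6, -15, 9, -18, -15, 9, 3, 1]]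

theorem eW3 : ∀ i j : chevG2.Idx, ff (matZ W2 * matZ W1) i j = ff (matZ W3) i j := by
  decide +kernel

/-- A literal matrix. -/
def W4 : List (List ℤ) := [[1, 0, -27, 20, -20, -10, 4, 0, 0, 0, 0, 0, 0, 0], [0, 1, 46, -36, 42, 18, 0, 4, 0, 0, 0, 0, 0, 0], [0, 0, 1, 0, 0, 0, 0, 0, 0, 0, 0, 0, 0, 0], [0, 0, -4, 1, 0, 0, 0, 0, 0, 0, 0, 0, 0, 0], [0, 0, 10, -4, 1, 0, 0, 0, 0, 0, 0, 0, 0, 0], [0, 0, 30, -16, 8, 1, 0, 0, 0, 0, 0, 0, 0, 0], [0, 0, -20, 14, -12, -4, 1, 0, 0, 0, 0, 0, 0, 0], [0, 0, 100, -64, 48, 12, 0, 1, 0, 0, 0, 0, 0, 0], [12, -8, -92, 77, -108, -72, 18, -16, 1, 0, 0, 0, 0, 0], [-8, 4, 100, -80, 100, 60, -16, 10, 0, 1, 0, 0, 0, 0], [-42, 26, 130, -112, 173, 140, -44, 40, -4, 4, 1, 0, 0, 0], [130, -80, -190, 168, -284, -273, 100, -100, 16, -20, -8, 1, 0, 0], [420, -260, -300, 272, -504, -576, 240, -273, 64, -90, -48, 12, 1, 0], [180, -113, -29,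 28, -66, -114, 60, -92, 36, -60, -42, 18, 4, 1]]

theorem eW4 : ∀ i j : chevG2.Idx, ff (matZ W2 * matZ W2) i j = ff (matZ W4) i j := by
  decide +kernel

/-- A literal matrix. -/
def W5 : List (List ℤ) := [[1, 0, -77, 50, -40, -15, 5, 0, 0, 0, 0, 0, 0, 0], [0, 1, 146, -100, 90, 30, 0, 5, 0, 0, 0, 0, 0, 0], [0, 0, 1, 0, 0, 0, 0, 0, 0, 0, 0, 0, 0, 0], [0, 0, -5, 1, 0, 0, 0, 0, 0, 0, 0, 0, 0, 0], [0, 0, 15, -5, 1, 0, 0, 0, 0, 0, 0, 0, 0, 0], [0, 0, 55, -25, 10, 1, 0, 0, 0, 0, 0, 0, 0, 0], [0, 0, -50, 30, -20, -5, 1, 0, 0, 0, 0, 0, 0, 0], [0, 0, 225, -125, 75, 15, 0, 1, 0, 0, 0, 0, 0, 0], [15, -10, -365, 273, -300, -150, 30, -25, 1, 0, 0, 0, 0, 0], [-10, 5, 350, -250, 250, 115, -25, 15, 0, 1, 0, 0, 0, 0], [-65, 40, 595, -465, 573, 350, -90, 75, -5, 5, 1, 0, 0, 0], [245, -150, -1015, 825, -1130, -823, 250, -225, 25, -30, -10, 1, 0, 0], [975, -600, -1925, 1625,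 -2475, -2145, 750, -748, 125, -165, -75, 15, 1, 0], [600, -373, -329, 300, -570, -690, 300, -365, 100, -150, -90, 30, 5, 1]]

theorem eW5 : ∀ i j : chevG2.Idx, ff (matZ W4 * matZ W1) i j = ff (matZ W5) i j := by
  decide +kernel

/-- A literal matrix. -/
def W6 : List (List ℤ) := [[1, 0, -182, 105, -70, -21, 6, 0, 0, 0, 0, 0, 0, 0], [0, 1, 371, -225, 165, 45, 0, 6, 0, 0, 0, 0, 0, 0], [0, 0, 1, 0, 0, 0, 0, 0, 0, 0, 0, 0, 0, 0], [0, 0, -6, 1, 0, 0, 0, 0, 0, 0, 0, 0, 0, 0], [0, 0, 21, -6, 1, 0, 0, 0, 0, 0, 0, 0, 0, 0], [0, 0, 91, -36, 12, 1, 0, 0, 0, 0, 0, 0, 0, 0], [0, 0, -105, 55, -30, -6, 1, 0, 0, 0, 0, 0, 0, 0], [0, 0, 441, -216, 108, 18, 0, 1, 0, 0, 0, 0, 0, 0], [18, -12, -1113, 748, -675, -270, 45, -36, 1, 0, 0, 0, 0, 0], [-12, 6, 980, -630, 525, 196, -36, 21, 0, 1, 0, 0, 0, 0], [-93, 57, 2058, -1463, 1498, 735, -160, 126, -6, 6, 1, 0, 0, 0], [413,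 -252, -4018, 3003, -3451, -2023, 525, -441, 36, -42, -12, 1, 0, 0], [1953, -1197, -8918, 6993, -9009, -6279, 1890, -1729, 216, -273, -108, 18, 1, 0], [1575, -973, -2254, 1925, -3045, -2835, 1050, -1113, 225, -315, -165, 45, 6, 1]]

theorem eW6 : ∀ i j : chevG2.Idx, ff (matZ W3 * matZ W3) i j = ff (matZ W6) i j := by
  decide +kernel

/-- A literal matrix. -/
def W8 : List (List ℤ) := [[1, 0, -714, 336, -168, -36, 8, 0, 0, 0, 0, 0, 0, 0], [0, 1, 1596, -784, 420, 84, 0, 8, 0, 0, 0, 0, 0, 0], [0, 0, 1, 0, 0, 0, 0, 0, 0, 0, 0, 0, 0, 0], [0, 0, -8, 1, 0, 0, 0, 0, 0, 0, 0, 0, 0, 0], [0, 0, 36, -8, 1, 0, 0, 0, 0, 0, 0, 0, 0, 0], [0, 0, 204, -64, 16, 1, 0, 0, 0, 0, 0, 0, 0, 0], [0, 0, -336, 140, -56, -8, 1, 0, 0, 0, 0, 0, 0, 0], [0, 0, 1296, -512, 192, 24, 0, 1, 0, 0, 0, 0, 0, 0], [24, -16, -6384, 3542, -2352, -672, 84, -64, 1, 0, 0, 0, 0, 0], [-16, 8, 5040,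 -2688, 1680, 456, -64, 36, 0, 1, 0, 0, 0, 0], [-164, 100, 14616, -8736, 6678, 2352, -392, 288, -8, 8, 1, 0, 0, 0], [948, -576, -35784, 22848, -19824, -8358, 1680, -1296, 64, -72, -16, 1, 0, 0], [5904, -3600, -102816, 69888, -68544, -34272, 8064, -6630, 512, -612, -192, 24, 1, 0], [7056, -4326, -44100, 32928, -38808, -24696, 7056, -6384, 784, -1008, -420, 84, 8, 1]]

theorem eW8 : ∀ i j : chevG2.Idx, ff (matZ W4 * matZ W4) i j = ff (matZ W8) i j := by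
  decide +kernel

/-- A literal matrix. -/
def W9 : List (List ℤ) := [[1, 0, -1254, 540, -240, -45, 9, 0, 0, 0, 0, 0, 0, 0], [0, 1, 2892, -1296, 612, 108, 0, 9, 0, 0, 0, 0, 0, 0], [0, 0, 1, 0, 0, 0, 0, 0, 0, 0, 0, 0, 0, 0], [0, 0, -9, 1, 0, 0, 0, 0, 0, 0, 0, 0, 0, 0], [0, 0, 45, -9, 1, 0, 0, 0, 0, 0, 0, 0, 0, 0], [0, 0, 285, -81, 18, 1, 0, 0, 0, 0, 0, 0, 0, 0], [0, 0, -540, 204, -72, -9, 1, 0, 0, 0, 0, 0, 0, 0], [0, 0, 2025, -729, 243, 27, 0, 1, 0, 0, 0, 0, 0, 0], [27, -18, -13014, 6630, -3888, -972, 108, -81, 1, 0, 0, 0, 0, 0], [-18, 9, 9900, -4860, 2700, 645, -81, 45, 0, 1, 0, 0, 0, 0], [-207, 126, 32670, -18054, 12246, 3780, -564, 405, -9, 9, 1, 0, 0, 0], [1335, -810, -88110, 52326, -40428, -14946, 2700, -2025, 81, -90, -18, 1, 0, 0], [9315, -5670, -282150, 179334, -156978, -68742, 14580, -11571, 729, -855, -243, 27, 1, 0], [12960, -7926, -146916,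 102816, -107352, -58968, 15120, -13014, 1296, -1620, -612, 108, 9, 1]]

theorem eW9 : ∀ i j : chevG2.Idx, ff (matZ W6 * matZ W3) i j = ff (matZ W9) i j := by
  decide +kernel

/-- A literal matrix. -/
def W10 : List (List ℤ) := [[1, 0, -2079, 825, -330, -55, 10, 0, 0, 0, 0, 0, 0, 0], [0, 1, 4917, -2025, 855, 135, 0, 10, 0, 0, 0, 0, 0, 0], [0, 0, 1, 0, 0, 0, 0, 0, 0, 0, 0, 0, 0, 0], [0, 0, -10, 1, 0, 0, 0, 0, 0, 0, 0, 0, 0, 0], [0, 0, 55, -10, 1, 0, 0, 0, 0, 0, 0, 0, 0, 0], [0, 0, 385, -100, 20, 1, 0, 0, 0, 0, 0, 0, 0, 0], [0, 0, -825, 285, -90, -10, 1, 0, 0, 0, 0, 0, 0, 0], [0, 0, 3025, -1000, 300, 30, 0, 1, 0, 0, 0, 0, 0, 0], [30, -20, -24585, 11571, -6075, -1350, 135, -100, 1, 0, 0, 0, 0, 0], [-20, 10, 18150, -8250, 4125, 880, -100, 55, 0, 1, 0, 0, 0, 0], [-255, 155, 67155, -34485, 21021, 5775, -780, 550, -10, 10, 1, 0, 0, 0], [1815, -1100, -197835,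 109725, -76395, -25146, 4125, -3025, 100, -110, -20, 1, 0, 0], [14025, -8525, -698775, 416625, -329175, -128205, 24750, -19096, 1000, -1155, -300, 30, 1, 0], [22275, -13596, -429066, 282150, -264330, -127710, 29700, -24585, 2025, -2475, -855, 135, 10, 1]]

theorem eW10 : ∀ i j : chevG2.Idx, ff (matZ W5 * matZ W5) i j = ff (matZ W10) i j := by
  decide +kernel

/-- A literal matrix. -/
def W20 : List (List ℤ) := [[1, 0, -59983, 13300, -2660, -210, 20, 0, 0, 0, 0, 0, 0, 0], [0, 1, 159334, -36100, 7410, 570, 0, 20, 0, 0, 0, 0, 0, 0], [0, 0, 1, 0, 0, 0, 0, 0, 0, 0, 0, 0, 0, 0], [0, 0, -20, 1, 0, 0, 0, 0, 0, 0, 0, 0, 0, 0], [0, 0, 210, -20, 1, 0, 0, 0, 0, 0, 0, 0, 0, 0], [0, 0, 2870, -400, 40, 1, 0, 0, 0, 0, 0, 0, 0, 0], [0, 0, -13300, 2470, -380, -20, 1, 0, 0, 0, 0, 0, 0, 0], [0, 0, 44100, -8000, 1200, 60, 0, 1, 0, 0, 0, 0, 0, 0], [60, -40, -1593340, 422617,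 -108300, -11400, 570, -400, 1, 0, 0, 0, 0, 0], [-40, 20, 1024100, -266000, 66500, 6860, -400, 210, 0, 1, 0, 0, 0, 0], [-1010, 610, 7885570, -2351440, 711417, 93100, -6460, 4200, -20, 20, 1, 0, 0, 0], [13930, -8400, -42909790, 14177800, -4955580, -777917, 66500, -44100, 400, -420, -40, 1, 0, 0], [212100, -128100, -293916700, 106666000, -42533400, -7852320, 798000, -542717, 8000, -8610, -1200, 60, 1, 0], [758100, -458717, -465238389, 187250700, -86195970, -18876690, 2274300, -1593340, 36100, -39900, -7410, 570, 20, 1]]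

theorem eW20 : ∀ i j : chevG2.Idx, ff (matZ W10 * matZ W10) i j = ff (matZ W20) i j := by
  decide +kernel

/-- A literal matrix. -/
def W25 : List (List ℤ) := [[1, 0, -179010, 32500, -5200, -325, 25, 0, 0, 0, 0, 0, 0, 0], [0, 1, 486980, -90000, 14700, 900, 0, 25, 0, 0, 0, 0, 0, 0], [0, 0, 1, 0, 0, 0, 0, 0, 0, 0, 0, 0, 0, 0], [0, 0, -25, 1, 0, 0, 0, 0, 0, 0, 0, 0, 0, 0], [0, 0, 325, -25, 1, 0, 0, 0, 0, 0, 0, 0, 0, 0], [0, 0, 5525, -625, 50, 1, 0, 0, 0, 0, 0, 0, 0, 0], [0, 0, -32500, 4900, -600, -25, 1, 0, 0, 0, 0, 0, 0, 0], [0, 0, 105625, -15625, 1875, 75, 0, 1, 0, 0, 0, 0, 0, 0], [75, -50, -6087250, 1323490, -270000, -22500, 900, -625, 1, 0, 0, 0, 0, 0], [-50, 25, 3802500, -812500, 162500, 13325, -625, 325, 0, 1, 0, 0, 0, 0], [-1575, 950, 36884250, -9077250, 2193490, 227500, -12700, 8125, -25, 25, 1, 0, 0, 0], [26975, -16250, -246782250, 67681250, -18934500,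 -2355990, 162500, -105625, 625, -650, -50, 1, 0, 0], [511875, -308750, -2100881250, 635781250, -203043750, -29669250, 2437500, -1616615, 15625, -16575, -1875, 75, 1, 0], [2340000, -1413490, -4362380100, 1465100000, -537303000, -92391000, 8970000, -6087250, 90000, -97500, -14700, 900, 25, 1]]

theorem eW25 : ∀ i j : chevG2.Idx, ff (matZ W20 * matZ W5) i j = ff (matZ W25) i j := by
  decide +kernel

/-- A literal matrix. -/
def V0 : List (List ℤ) := [[1, 0, 1, 0, 2, 1, 0, 0, 0, 0, 0, 0, 0, 0], [0, 1, 3, 0, 3, 3, 0, 0, 0, 0, 0, 0, 0, 0], [0, 0, 1, 0, 0, 0, 0, 0, 0, 0, 0, 0, 0, 0], [0, 0, 0, 1, 0, 0, 0, 0, 0, 0, 0, 0, 0, 0], [0, 0, -1, 0, 1, 0, 0, 0, 0, 0, 0, 0, 0, 0], [0, 0, 1, 0, 0, 1, 0, 0, 0, 0, 0, 0, 0, 0], [0, 0, 1, 1, -2, 0, 1, 0, 0, 0, 0, 0, 0, 0], [0, 0, 0, 0, 0, 0, 0, 1, 0, 0, 0, 0, 0, 0], [0, 0, 1, 3, -3, 0, 3, 0, 1, 0, 0, 0, 0, 0], [0, 0, -1,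 0, 0, -2, 0, -1, 0, 1, 0, 0, 0, 0], [1, -1, -1, 1, -1, -1, 2, 0, 0, 0, 1, 0, 0, 0], [-1, 0, -2, 0, -1, -4, 0, -1, 0, 2, 0, 1, 0, 0], [0, 0, 1, 0, 0, 3, 0, 0, 0, -3, 0, 0, 1, 0], [-3, 0, -3, -1, -3, -6, -3, -1, 0, 3, -3, 3, 0, 1]]

theorem eV0 : ∀ i j : chevG2.Idx, ff (matZ Lx8 * matZ Lx9) i j = ff (matZ V0) i j := by
  decide +kernel

/-- A literal matrix. -/
def V1 : List (List ℤ) := [[3, 0, 1, 0, 2, 4, 0, 0, 0, -5, 0, -4, 2, 0], [3, 1, 3, 0, 3, 12, 0, 0, 0, -15, 0, -6, 6, 0], [0, 0, 1, 0, 0, 3, 0, 0, 0, -3, 0, 0, 1, 0], [0, 0, 0, 1, 0, 0, 3, 0, 0, 0, 3, 0, 0, -1], [1, 0, -1, 0, 1, -3, 0, 0, 0, 3, 0, -1, -1, 0], [0, 0, 1, 0, 0, 4, 0, 0, 0, -5, 0, 0, 2, 0], [-2, 0, 1, 1, -2, 3, 4, 0, 0, -3, 5, 2, 1, -2], [0, 0, 0, 0, 0, 0, 0, 1, 0, 0, 0, 0, 0, 0], [-3, 0, 1, 3, -3, 3, 12, 0, 1, -3, 15, 3, 1, -6], [0, 0, -1, 0, 0, -5, 0, -1, 0, 8, 0, 0, -4, 0], [0, -1,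 -1, 1, -1, -4, 5, 0, 0, 5, 8, 2, -2, -4], [-2, 0, -2, 0, -1, -10, 0, -1, 0, 16, 0, 4, -8, 0], [0, 0, 1, 0, 0, 6, 0, 0, 0, -12, 0, 0, 8, 0], [-6, 0, -3, -1, -3, -15, -6, -1, 0, 24, -12, 12, -12, 8]]

theorem eV1 : ∀ i j : chevG2.Idx, ff (matZ V0 * matZ Lx2) i j = ff (matZ V1) i j := by
  decide +kernel

/-- A literal matrix. -/
def V2 : List (List ℤ) := [[19, 0, 21, 0, 12, 102, 0, 9, 0, -160, 0, -30, 81, 0], [27, 1, 51, 0, 18, 243, 0, 21, 0, -378, 0, -45, 192, 0], [0, 0, 8, 0, 0, 36, 0, 3, 0, -54, 0, 0, 27, 0], [0, -3, 3, 8, -6, 12, 36, 1, 0, -18, 54, 0, 9, -27], [6, 0, -6, 0, 4, -25, 0, -2, 0, 36, 0, -9, -18, 0], [0, 0, 12, 0, 0, 56, 0, 5, 0, -87, 0, 0, 45, 0], [-8, -5, 9, 12, -15, 36, 56, 3, 0, -53, 87, 12, 27, -45], [0, 0, 0, 0, 0, 0, 0, 1, 0, 0, 0, 0, 0, 0], [-9, -15, 18, 39, -36, 72, 180, 6, 1, -108, 276, 12, 55, -141], [0, 0, -18, 0, 0, -87, 0, -9,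 0, 140, 0, 0, -75, 0], [6, -9, -9, 18, -12, -42, 87, -3, 0, 60, 140, -7, -29, -75], [-15, 0, -45, 0, -9, -219, 0, -21, 0, 351, 0, 25, -185, 0], [0, 0, 27, 0, 0, 135, 0, 12, 0, -225, 0, 0, 125, 0], [-81, 12, -99, -27, -27, -486, -135, -45, 0, 783, -225, 135, -408, 125]]

theorem eV2 : ∀ i j : chevG2.Idx, ff (matZ V1 * matZ V1) i j = ff (matZ V2) i j := by
  decide +kernel

/-- A literal matrix. -/
def V3 : List (List ℤ) := [[129, 0, 431, 0, 80, 2097, 0, 199, 0, -3364, 0, -208, 1779, 0], [192, 1, 966, 0, 120, 4683, 0, 444, 0, -7512, 0, -312, 3987, 0], [0, 0, 125, 0, 0, 600, 0, 57, 0, -960, 0, 0, 512, 0], [75, -57, 102, 125, -60, 480, 600, 46, 0, -780, 960, -120, 411, -512], [40, 0, -65, 0, 25, -304, 0, -29, 0, 485, 0, -64, -264, 0], [0, 0, 200, 0, 0, 965, 0, 92, 0, -1552, 0, 0, 832, 0], [80, -92, 197, 200, -122, 926, 965, 89, 0, -1506, 1552, -129, 804,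 -832], [0, 0, 0, 0, 0, 0, 0, 1, 0, 0, 0, 0, 0, 0], [351, -291, 539, 639, -327, 2538, 3075, 243, 1, -4131, 4932, -567, 2187, -2637], [0, 0, -320, 0, 0, -1552, 0, -149, 0, 2509, 0, 0, -1352, 0], [269, -149, 37, 320, -109, 179, 1552, 19, 0, -339, 2509, -432, 168, -1352], [-104, 0, -856, 0, -64, -4159, 0, -397, 0, 6706, 0, 169, -3588, 0], [0, 0, 512, 0, 0, 2496, 0, 237, 0, -4056, 0, 0, 2197, 0], [-984, 237, -2349, -512, -168, -11433, -2496, -1088, 0, 18471, -4056, 1599, -9795, 2197]]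

theorem eV3 : ∀ i j : chevG2.Idx, ff (matZ V2 * matZ V1) i j = ff (matZ V3) i j := by
  decide +kernel

/-- A literal matrix. -/
def V4 : List (List ℤ) := [[883, 0, 8136, 0, 546, 39531, 0, 3771, 0, -63771, 0, -1428, 34155, 0], [1323, 1, 17847, 0, 819, 86652, 0, 8268, 0, -139860, 0, -2142, 75042, 0], [0, 0, 2197, 0, 0, 10647, 0, 1017, 0, -17199, 0, 0, 9261, 0], [2106, -1017, 3153, 2197, -585, 15228, 10647, 1458, 0, -24786, 17199, -3402, 13122, -9261], [273, 0, -975, 0, 169, -4695, 0, -450, 0, 7614, 0, -441, -4158, 0], [0, 0, 3549, 0, 0, 17212, 0, 1644, 0, -27825, 0, 0, 14994, 0], [3162, -1644, 5526, 3549, -1095, 26688, 17212, 2556, 0, -43470, 27825, -5112, 23112, -14994], [0, 0, 0, 0, 0, 0, 0, 1, 0, 0, 0, 0, 0, 0], [10656, -5223, 16389, 11286, -3105, 79164, 54711, 7578, 1, -128898, 88407, -17226, 68310, -47619], [0, 0, -5733, 0, 0, -27825, 0, -2658, 0,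 45016, 0, 0, -24276, 0], [6123, -2658, 4617, 5733, -1143, 22365, 27825, 2142, 0, -36642, 45016, -9903, 19062, -24276], [-714, 0, -15687, 0, -441, -76176, 0, -7272, 0, 123099, 0, 1156, -66198, 0], [0, 0, 9261, 0, 0, 44982, 0, 4293, 0, -72828, 0, 0, 39304, 0], [-13797, 4293, -50382, -9261, -567, -244701, -44982, -23355, 0, 395901, -72828, 22338, -211377, 39304]]

theorem eV4 : ∀ i j : chevG2.Idx, ff (matZ V2 * matZ V2) i j = ff (matZ V4) i j := by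
  decide +kernel

/-- A literal matrix. -/
def V6 : List (List ℤ) := [[41473, 0, 2689050, 0, 25632, 13054782, 0, 1246476, 0, -21114208, 0, -67104, 11376642, 0], [62208, 1, 5845524, 0, 38448, 28377306, 0, 2709585, 0, -45901728, 0, -100656, 24739842, 0], [0, 0, 704969, 0, 0, 3421872, 0, 326766, 0, -5536512, 0, 0, 2985984, 0], [828234, -326766, 2021823, 704969, -93984, 9809616, 3421872, 937090, 0, -15908544, 5536512, -1340064, 8471772, -2985984], [12816, 0, -288894, 0, 7921, -1401568, 0, -133892, 0, 2270238, 0, -20736, -1227744, 0], [0, 0, 1140624, 0, 0, 5536601, 0, 528704, 0, -8958240, 0, 0, 4831488, 0], [1329568, -528704, 3389652, 1140624, -158556, 16446063, 5536601, 1571064, 0, -26671400, 8958240, -2151246, 14212608, -4831488], [0, 0, 0, 0, 0, 0, 0, 1, 0, 0, 0, 0, 0, 0], [4251087, -1679742, 10441710, 3623898, -487116, 50661846, 17590266, 4839603, 1, -82160712,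 28460832, -6878220, 43757578, -15349758], [0, 0, -1845504, 0, 0, -8958240, 0, -855438, 0, 14494697, 0, 0, -7817616, 0], [2200110, -855438, 4190868, 1845504, -226326, 20333820, 8958240, 1942458, 0, -32991027, 14494697, -3559840, 17502256, -7817616], [-33552, 0, -5107104, 0, -20736, -24791898, 0, -2367300, 0, 40106940, 0, 54289, -21622400, 0], [0, 0, 2985984, 0, 0, 14494464, 0, 1384086, 0, -23452848, 0, 0, 12649337, 0], [-3745440, 1384086, -20913732, -2985984, 251424, -101511684, -14494464, -9694026, 0, 164356668, -23452848, 6060330, -88124067, 12649337]]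

theorem eV6 : ∀ i j : chevG2.Idx, ff (matZ V3 * matZ V3) i j = ff (matZ V6) i j := by
  decide +kernel

/-- A literal matrix. -/
def V12 : List (List ℤ) := [[4299982849, 0, 90169946006436, 0, 2657535552, 437694306067692, 0, 41796072082224, 0, -708203345738400, 0, -6957518400, 381964535194356, 0], [6449974272, 1, 195743584024776, 0, 3986303328, 950159606805828, 0, 90732146305446, 0, -1537389161175168, 0, -10436277600, 829180899450612, 0], [0, 0, 23533806109393, 0, 0, 114235494470496, 0, 10908519043788, 0, -184836912712704, 0, 0, 99690802348032, 0], [28556029353060, -10908519043788, 173133442891098, 23533806109393, -2576909884896, 840313329596352, 114235494470496, 80250619886136, 0, -1360697806159488, 184836912712704, -46204626061440, 730035097313904, -99690802348032], [1328767776, 0, -9520005218796, 0, 821223649, -46211016087360, 0, -4412764004112, 0,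 74771278318476, 0, -2149991424, -40327848183168, 0], [0, 0, 38078498156832, 0, 0, 184836912741361, 0, 17650354574880, 0, -299072407136832, 0, 0, 161303106585600, 0], [46203551024832, -17650354574880, 283986872090064, 38078498156832, -4170192188760, 1378349000156826, 184836912741361, 131633302030848, 0, -2231902201138848, 299072407136832, -74758915945548, 1197535395848832, -161303106585600], [0, 0, 0, 0, 0, 0, 0, 1, 0, 0, 0, 0, 0, 0], [146793800366946, -56076076364220, 891563559055848, 120977330030244, -13247205485616, 4327256893992552, 587236295408580, 413256553896636, 1, -7007006780281728, 950168285135136, -237517358265648, 3759400654932600, -512468193318156], [0, 0, -61612304237568, 0, 0, -299072407136832, 0, -28558873607724, 0, 483909319831825, 0, 0, -260993908980000, 0], [74764007120556, -28558873607724, 416793269858256, 61612304237568, -6744366174492,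 2022910940978928, 299072407136832, 193191312167352, 0, -3275866662768810, 483909319831825, -120970704652992, 1756740861032256, -260993908980000], [-3478759200, 0, -170821734572160, 0, -2149991424, -829186274498724, 0, -79180231347216, 0, 1341650832330456, 0, 5628750625, -723611277784800, 0], [0, 0, 99690802348032, 0, 0, 483909319756800, 0, 46209228164892, 0, -782981726940000, 0, 0, 422297015640625, 0], [-120989994523776, 46209228164892, -1147993430256144, -99690802348032, 10900691883648, -5572079855672976, -483909319756800, -532119391974360, 0, 9020224479762288, -782981726940000, 195765923463300, -4848694397317098, 422297015640625]]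

theorem eV12 : ∀ i j : chevG2.Idx, ff (matZ V6 * matZ V6) i j = ff (matZ V12) i j := by
  decide +kernel


theorem ext' {A B : Matrix chevG2.Idx chevG2.Idx ℤ} (h : ∀ i j, ff A i j = ff B i j) : A = B := by
  ext i j
  exact h i j

/-- The powers of the regular unipotent word. -/
theorem W_pow : ∀ n ∈ ([1, 2, 3, 4, 5, 6, 8, 9, 10, 20, 25] : List ℕ), (matZ W1) ^ n = matZ (
    match n with
    | 1 => W1 | 2 => W2 | 3 => W3 | 4 => W4 | 5 => W5 | 6 => W6 | 8 => W8 | 9 => W9 | 10 => W10 | 20 => W20 | _ => W25) := by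
  have e2 : (matZ W1) ^ 2 = matZ W2 := by rw [pow_two]; exact ext' eW2
  have e3 : (matZ W1) ^ 3 = matZ W3 := by rw [pow_succ, e2]; exact ext' eW3
  have e4 : (matZ W1) ^ 4 = matZ W4 := by rw [show 4 = 2 + 2 from rfl, pow_add, e2]; exact ext' eW4
  have e5 : (matZ W1) ^ 5 = matZ W5 := by rw [pow_succ, e4]; exact ext' eW5
  have e6 : (matZ W1) ^ 6 = matZ W6 := by rw [show 6 = 3 + 3 from rfl, pow_add, e3]; exact ext' eW6
  have e8 : (matZ W1) ^ 8 = matZ W8 := by rw [show 8 = 4 + 4 from rfl, pow_add, e4]; exact ext' eW8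
  have e9 : (matZ W1) ^ 9 = matZ W9 := by rw [show 9 = 6 + 3 from rfl, pow_add, e6, e3]; exact ext' eW9
  have e10 : (matZ W1) ^ 10 = matZ W10 := by rw [show 10 = 5 + 5 from rfl, pow_add, e5]; exact ext' eW10
  have e20 : (matZ W1) ^ 20 = matZ W20 := by rw [show 20 = 10 + 10 from rfl, pow_add, e10]; exact ext' eW20
  have e25 : (matZ W1) ^ 25 = matZ W25 := by rw [show 25 = 20 + 5 from rfl, pow_add, e20, e5]; exact ext' eW25
  intro n hn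
  simp only [List.mem_cons, List.not_mem_nil, or_false] at hn
  rcases hn with rfl | rfl | rfl | rfl | rfl | rfl | rfl | rfl | rfl | rfl | rfl
  · exact pow_one _
  · exact e2
  · exact e3
  · exact e4
  · exact e5
  · exact e6
  · exact e8
  · exact e9
  · exact e10
  · exact e20
  · exact e25

theorem V_pow4 : (matZ V1) ^ 4 = matZ V4 := by
  rw [show 4 = 2 + 2 from rfl, pow_add, pow_two]
  rw [ext' eV2]
  exact ext' eV4

theorem V_pow6 : (matZ V1) ^ 6 = matZ V6 := by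
  have e3 : (matZ V1) ^ 3 = matZ V3 := by
    rw [pow_succ, pow_two, ext' eV2]
    exact ext' eV3
  rw [show 6 = 3 + 3 from rfl, pow_add, e3]
  exact ext' eV6

theorem V_pow12 : (matZ V1) ^ 12 = matZ V12 := by
  rw [show 12 = 6 + 6 from rfl, pow_add, V_pow6]
  exact ext' eV12

/-- The regular unipotent word. -/
noncomputable def gW : GL chevG2.Idx F := X (hA (F := F)) 7 1 * X (hA (F := F)) 6 1

theorem gW_mem : gW (F := F) ∈ chevG2.group F := Subgroup.mul_mem _ (root_mem _) (root_mem _)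

theorem gW_coe : ((gW (F := F) : GL chevG2.Idx F) : Matrix chevG2.Idx chevG2.Idx F) = cH (matZ W1) := by
  rw [gW, Units.val_mul, root_coe (by decide), root_coe (by decide), ← map_mul, ext' xZ7, ext' xZ6, ext' eW1]

/-- The word of order twelve in characteristic two. -/
noncomputable def gV : GL chevG2.Idx F := X (hA (F := F)) 8 1 * X (hA (F := F)) 9 1 * X (hA (F := F)) 2 1

theorem gV_mem : gV (F := F) ∈ chevG2.group F := Subgroup.mul_mem _ (Subgroup.mul_mem _ (root_mem _) (root_mem _)) (root_mem _)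

theorem gV_coe : ((gV (F := F) : GL chevG2.Idx F) : Matrix chevG2.Idx chevG2.Idx F) = cH (matZ V1) := by
  rw [gV, Units.val_mul, Units.val_mul, root_coe (by decide), root_coe (by decide), root_coe (by decide), ← map_mul, ← map_mul,
    ext' xZ8, ext' xZ9, ext' xZ2, ext' eV0, ext' eV1]

theorem chk25 : ∀ i j : chevG2.Idx, (((5 : ℕ) : ℤ)) ∣ ff (matZ W25) i j - ff 1 i j := by
  decide +kernel

theorem chk5 : ¬ ∀ i j : chevG2.Idx, (((5 : ℕ) : ℤ)) ∣ ff (matZ W5) i j - ff 1 i j := by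
  decide +kernel

theorem chk9 : ∀ i j : chevG2.Idx, (((3 : ℕ) : ℤ)) ∣ ff (matZ W9) i j - ff 1 i j := by
  decide +kernel

theorem chk3 : ¬ ∀ i j : chevG2.Idx, (((3 : ℕ) : ℤ)) ∣ ff (matZ W3) i j - ff 1 i j := by
  decide +kernel

theorem chk8 : ∀ i j : chevG2.Idx, (((2 : ℕ) : ℤ)) ∣ ff (matZ W8) i j - ff 1 i j := by
  decide +kernel

theorem chk4 : ¬ ∀ i j : chevG2.Idx, (((2 : ℕ) : ℤ)) ∣ ff (matZ W4) i j - ff 1 i j := by
  decide +kernel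

theorem chkV12 : ∀ i j : chevG2.Idx, (((2 : ℕ) : ℤ)) ∣ ff (matZ V12) i j - ff 1 i j := by
  decide +kernel

theorem chkV4 : ¬ ∀ i j : chevG2.Idx, (((2 : ℕ) : ℤ)) ∣ ff (matZ V4) i j - ff 1 i j := by
  decide +kernel

theorem chkV6 : ¬ ∀ i j : chevG2.Idx, (((2 : ℕ) : ℤ)) ∣ ff (matZ V6) i j - ff 1 i j := by
  decide +kernel

theorem w_pow' (n : ℕ) (hn : n ∈ ([1, 2, 3, 4, 5, 6, 8, 9, 10, 20, 25] : List ℕ)) {L : List (List ℤ)}
    (hL : (matZ W1) ^ n = matZ L) {p : ℕ} [CharP F p] :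
    (gW (F := F)) ^ n = 1 ↔ ∀ i j, (p : ℤ) ∣ matZ L i j - (1 : Matrix chevG2.Idx chevG2.Idx ℤ) i j := by
  rw [pow_iff gW_coe, hL, cH_one_iff]

/-- An element of order `25` in characteristic five. -/
theorem exists_order_25 [CharP F 5] : ∃ y : ↥(chevG2.group F), orderOf y = 5 ^ 2 := by
  haveI : Fact (Nat.Prime 5) := ⟨by norm_num⟩
  refine ⟨⟨gW, gW_mem⟩, ?_⟩
  rw [Subgroup.orderOf_mk]
  have h1 : (gW (F := F)) ^ (5 ^ (1 + 1)) = 1 := by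
    rw [show 5 ^ (1 + 1) = 25 from rfl, pow_iff gW_coe, W_pow 25 (by simp), cH_one_iff (p := 5)]
    exact chk25
  have h2 : ¬ (gW (F := F)) ^ (5 ^ 1) = 1 := by
    rw [show 5 ^ 1 = 5 from rfl, pow_iff gW_coe, W_pow 5 (by simp), cH_one_iff (p := 5)]
    exact chk5
  exact orderOf_eq_prime_pow h2 h1

/-- An element of order `9` in characteristic three. -/
theorem exists_order_9 [CharP F 3] : ∃ y : ↥(chevG2.group F), orderOf y = 3 ^ 2 := by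
  haveI : Fact (Nat.Prime 3) := ⟨by norm_num⟩
  refine ⟨⟨gW, gW_mem⟩, ?_⟩
  rw [Subgroup.orderOf_mk]
  have h1 : (gW (F := F)) ^ (3 ^ (1 + 1)) = 1 := by
    rw [show 3 ^ (1 + 1) = 9 from rfl, pow_iff gW_coe, W_pow 9 (by simp), cH_one_iff (p := 3)]
    exact chk9
  have h2 : ¬ (gW (F := F)) ^ (3 ^ 1) = 1 := by
    rw [show 3 ^ 1 = 3 from rfl, pow_iff gW_coe, W_pow 3 (by simp), cH_one_iff (p := 3)]
    exact chk3
  exact orderOf_eq_prime_pow h2 h1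

/-- An element of order `8` in characteristic two. -/
theorem exists_order_8 [CharP F 2] : ∃ y : ↥(chevG2.group F), orderOf y = 8 := by
  haveI : Fact (Nat.Prime 2) := ⟨by norm_num⟩
  refine ⟨⟨gW, gW_mem⟩, ?_⟩
  rw [Subgroup.orderOf_mk]
  have h1 : (gW (F := F)) ^ (2 ^ (2 + 1)) = 1 := by
    rw [show 2 ^ (2 + 1) = 8 from rfl, pow_iff gW_coe, W_pow 8 (by simp), cH_one_iff (p := 2)]
    exact chk8
  have h2 : ¬ (gW (F := F)) ^ (2 ^ 2) = 1 := by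
    rw [show 2 ^ 2 = 4 from rfl, pow_iff gW_coe, W_pow 4 (by simp), cH_one_iff (p := 2)]
    exact chk4
  exact orderOf_eq_prime_pow h2 h1

/-- An element of order `12` in characteristic two. -/
theorem exists_order_12 [CharP F 2] : ∃ y : ↥(chevG2.group F), orderOf y = 12 := by
  refine ⟨⟨gV, gV_mem⟩, ?_⟩
  rw [Subgroup.orderOf_mk]
  have h1 : (gV (F := F)) ^ 12 = 1 := by
    rw [pow_iff gV_coe, V_pow12, cH_one_iff (p := 2)]
    exact chkV12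
  have h2 : ¬ (gV (F := F)) ^ 4 = 1 := by
    rw [pow_iff gV_coe, V_pow4, cH_one_iff (p := 2)]
    exact chkV4
  have h3 : ¬ (gV (F := F)) ^ 6 = 1 := by
    rw [pow_iff gV_coe, V_pow6, cH_one_iff (p := 2)]
    exact chkV6
  have d1 := orderOf_dvd_of_pow_eq_one h1
  have d2 : ¬ orderOf (gV (F := F)) ∣ 4 := fun d => h2 (orderOf_dvd_iff_pow_eq_one.mp d)
  have d3 : ¬ orderOf (gV (F := F)) ∣ 6 := fun d => h3 (orderOf_dvd_iff_pow_eq_one.mp d)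
  have key : ∀ n ≤ 12, n ∣ 12 → ¬ n ∣ 4 → ¬ n ∣ 6 → n = 12 := by decide
  exact key _ (Nat.le_of_dvd (by norm_num) d1) d1 d2 d3

end Cfsg.Agent.Lib.G2Oct.LowW
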